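import Cfsg.Agent.H391.HT.NumP

/-!
# S3512, quasisimple rows: kernel sieve for one group and all primes

`Surv ex p n T`: every solution `(q, m, h)`, `q = p ^ k`, `k ≥ 1`, of the numerical conditions `CP` for `T` in degree `n` has
`(n, q, m) ∈ ex`.
`surv`: the search; rows `(p, a, A')` with `|Aut T| = p ^ a * A'`; the check is closed by `by decide +kernel`.
-/

set_option autoImplicit false

universe u v

namespace Cfsg.Agent.H391.HT

/-- every solution of the numerical conditions in degree `n` is in the list `ex` -/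
def Surv (ex : List (ℕ × ℕ × ℕ)) (p n : ℕ) (T : Type u) [Group T] : Prop :=
  ∀ k m h, 1 ≤ k → CP (Nat.card T) (Nat.card (MulAut T)) n (p ^ k) m h → (n, p ^ k, m) ∈ ex

theorem Surv.congr {ex : List (ℕ × ℕ × ℕ)} {p n : ℕ} {T : Type u} {T' : Type v} [Group T] [Group T'] (e : T ≃* T')
    (h : Surv ex p n T) : Surv ex p n T' := by
  have h1 : Nat.card T' = Nat.card T := (Nat.card_congr e.toEquiv).symm
  have h2 : Nat.card (MulAut T') = Nat.card (MulAut T) := (Nat.card_congr (MulAut.congr e).toEquiv).symm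
  intro k m h' hk hc
  rw [h1, h2] at hc
  exact h k m h' hk hc

theorem Surv.mono {ex ex' : List (ℕ × ℕ × ℕ)} {p n : ℕ} {T : Type u} [Group T] (hs : ∀ x ∈ ex, x ∈ ex')
    (h : Surv ex p n T) : Surv ex' p n T := fun k m h' hk hc => hs _ (h k m h' hk hc)

theorem CP.mono {o A A' n q m h : ℕ} (hA : A ∣ A') (hc : CP o A n q m h) : CP o A' n q m h :=
  ⟨hc.1, hc.2.1, hc.2.2.1, hc.2.2.2.1, hc.2.2.2.2.1.trans (Nat.mul_dvd_mul_left _ hA), hc.2.2.2.2.2⟩

/-- one row `(p, a, A')` -/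
def okRow (o A n₀ ft fk fn : ℕ) (ex : List (ℕ × ℕ × ℕ)) (r : ℕ × ℕ × ℕ) : Bool :=
  Nat.beq A (r.1 ^ r.2.1 * r.2.2) && (Nat.blt 0 r.2.2 && loopN ex r.1 o A (2 * r.2.2 ^ 2) ft fk fn n₀)

/-- all rows -/
def okAll (o A n₀ ft fk fn : ℕ) (ex : List (ℕ × ℕ × ℕ)) : List (ℕ × ℕ × ℕ) → Bool
  | [] => true
  | r :: rs => okRow o A n₀ ft fk fn ex r && okAll o A n₀ ft fk fn ex rs

theorem okAll_spec {o A n₀ ft fk fn : ℕ} {ex : List (ℕ × ℕ × ℕ)} : ∀ {rs : List (ℕ × ℕ × ℕ)},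
    okAll o A n₀ ft fk fn ex rs = true → ∀ r ∈ rs, okRow o A n₀ ft fk fn ex r = true
  | [], _, r, hr => by simp at hr
  | s :: rs, h, r, hr => by
    rw [okAll, Bool.and_eq_true] at h
    rcases List.mem_cons.1 hr with rfl | hr
    · exact h.1
    · exact okAll_spec h.2 r hr

/-- **The search.** `rs` = rows `(p, a, A')`; all degrees `n ≥ n₀`. -/
theorem surv {T : Type u} [Group T] {o A p n n₀ : ℕ} {ex : List (ℕ × ℕ × ℕ)} (rs : List (ℕ × ℕ × ℕ)) (ft fk fn : ℕ)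
    (hp : p.Prime) (ho : Nat.card T = o) (hA : Nat.card (MulAut T) ∣ A) (hn₀ : 3 ≤ n₀) (hn : n₀ ≤ n)
    (hrs : okAll o A n₀ ft fk fn ex rs = true) (hmem : p ∈ rs.map Prod.fst) : Surv ex p n T := by
  intro k m h hk hc
  obtain ⟨r, hr, rfl⟩ := List.mem_map.1 hmem
  have h1 := okAll_spec hrs r hr
  rw [okRow, Bool.and_eq_true, Bool.and_eq_true, Nat.beq_eq, Nat.blt_eq] at h1
  rw [ho] at hc
  exact loopN_spec hp h1.1 h1.2.1 fn n₀ hn₀ h1.2.2 n k m h hn hk (hc.mono hA)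

/-- the prime divisors of `o` -/
theorem mem_of_dvd {p o : ℕ} (hp : p.Prime) (l : List ℕ) (hl : ∀ x ∈ l, x.Prime) (h : Nat.beq (l.prod ^ 50 % o) 0 = true)
    (hd : p ∣ o) : p ∈ l := by
  rw [Nat.beq_eq] at h
  have h1 : p ∣ l.prod := hp.dvd_of_dvd_pow (hd.trans (Nat.dvd_of_mod_eq_zero h))
  obtain ⟨a, ha, h2⟩ := (Nat.Prime.prime hp).dvd_prod_iff.1 h1
  rwa [(Nat.prime_dvd_prime_iff_eq hp (hl a ha)).1 h2]

end Cfsg.Agent.H391.HT
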