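import Cfsg.Agent.H391.HT.Small
import Cfsg.Agent.H337.HT.BridgeP
import Cfsg.Agent.H662.HT.QW
import Cfsg.Agent.OddHalf.Known

/-!
# S3512, quasisimple rows: from `QSP` to the numerical survivors

`cases_small` (degree `3, …, 12`), `cases_big` (degree at least `13`).
-/

set_option autoImplicit false
set_option linter.unusedSectionVars false

universe u v w

open scoped commutatorElement

namespace Cfsg.Agent.H391.HT

open Cfsg Cfsg.Agent.H915.LD Cfsg.Agent.H828.HT Cfsg.Agent.H19.HT Cfsg.Agent.H337.HT Cfsg.Agent.H912.Bd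
  Cfsg.Agent.H936.List12

theorem SmSurv.congr {p n q m : ℕ} {T : Type v} {T' : Type w} [Group T] [Group T'] (e : T ≃* T')
    (h : SmSurv p n q m T) : SmSurv p n q m T' := by
  have hL : ∀ {a b : ℕ}, IsL a b T → IsL a b T' := fun h => isL_congr e h
  have hU : ∀ {a b : ℕ}, IsU a b T → IsU a b T' := fun h => isU_congr e h
  have hN : ∀ {X : Type} [Group X], Nonempty (T ≃* X) → Nonempty (T' ≃* X) := fun ⟨f⟩ => ⟨e.symm.trans f⟩
  rcases h with ⟨h1, h⟩ | ⟨h, h1⟩ | ⟨h, h1⟩ | ⟨c, h1, h⟩ | ⟨h, h1⟩ | ⟨h, h1⟩ | ⟨h, h1⟩ | ⟨h, h1⟩ | ⟨h, h1⟩ | ⟨h, h1⟩ |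
    ⟨h, h1⟩ | ⟨h, h1⟩ | ⟨h, h1⟩ | ⟨h, h1⟩ | ⟨h, h1⟩
  · exact Or.inl ⟨h1, hN h⟩
  · exact Or.inr (Or.inl ⟨hN h, h1⟩)
  · exact Or.inr (Or.inr (Or.inl ⟨hN h, h1⟩))
  · exact Or.inr (Or.inr (Or.inr (Or.inl ⟨c, h1, hN h⟩)))
  · exact Or.inr (Or.inr (Or.inr (Or.inr (Or.inl ⟨hL h, h1⟩))))
  · exact Or.inr (Or.inr (Or.inr (Or.inr (Or.inr (Or.inl ⟨hL h, h1⟩)))))
  · exact Or.inr (Or.inr (Or.inr (Or.inr (Or.inr (Or.inr (Or.inl ⟨hL h, h1⟩))))))
  · exact Or.inr (Or.inr (Or.inr (Or.inr (Or.inr (Or.inr (Or.inr (Or.inl ⟨hU h, h1⟩)))))))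
  · exact Or.inr (Or.inr (Or.inr (Or.inr (Or.inr (Or.inr (Or.inr (Or.inr (Or.inl ⟨hL h, h1⟩))))))))
  · exact Or.inr (Or.inr (Or.inr (Or.inr (Or.inr (Or.inr (Or.inr (Or.inr (Or.inr (Or.inl ⟨isG2_congr e h, h1⟩)))))))))
  · exact Or.inr (Or.inr (Or.inr (Or.inr (Or.inr (Or.inr (Or.inr (Or.inr (Or.inr (Or.inr (Or.inl ⟨hU h, h1⟩))))))))))
  · exact Or.inr (Or.inr (Or.inr (Or.inr (Or.inr (Or.inr (Or.inr (Or.inr (Or.inr (Or.inr (Or.inr (Or.inl
      ⟨hN h, h1⟩)))))))))))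
  · exact Or.inr (Or.inr (Or.inr (Or.inr (Or.inr (Or.inr (Or.inr (Or.inr (Or.inr (Or.inr (Or.inr (Or.inr (Or.inl
      ⟨hN h, h1⟩))))))))))))
  · exact Or.inr (Or.inr (Or.inr (Or.inr (Or.inr (Or.inr (Or.inr (Or.inr (Or.inr (Or.inr (Or.inr (Or.inr (Or.inr (Or.inl
      ⟨hN h, h1⟩)))))))))))))
  · exact Or.inr (Or.inr (Or.inr (Or.inr (Or.inr (Or.inr (Or.inr (Or.inr (Or.inr (Or.inr (Or.inr (Or.inr (Or.inr (Or.inr
      ⟨hN h, h1⟩)))))))))))))

variable {p : ℕ} [hp : Fact p.Prime] {K : Type w} [Field K] {V : Type u} [AddCommGroup V] [Module (ZMod p) V]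
    [Finite V] [Module K V] {G L : Subgroup (V ≃ₗ[ZMod p] V)} {h : ℕ}

theorem QSP.qw (H : QSP p K V G L h) : H662.HT.QW p K V G L h :=
  ⟨H.half, H.two_le, H.le, H.nrm, H.perf, H.simple, H.nonab, H.lin, H.endo, H.irr⟩

theorem glOrd_eq (q n : ℕ) : H742.HT.glOrd q n = ∏ i : Fin n, (q ^ n - q ^ (i : ℕ)) := by
  rw [H742.HT.glOrd, Fin.prod_univ_eq_prod_range (fun i => q ^ n - q ^ i) n, Finset.prod_range]
  rw [← List.prod_ofFn]
  congr 1
  apply List.ext_getElem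
  · simp
  · intro i h1 h2
    simp

theorem not_comm (H : QSP p K V G L h) : ¬ IsMulCommutative (L ⧸ Subgroup.center L) := by
  intro hc
  have h1 : commutator L ≤ Subgroup.center L := by
    rw [commutator_def, Subgroup.commutator_le]
    intro a _ b _
    have h2 : ((⁅a, b⁆ : L) : L ⧸ Subgroup.center L) = 1 := by
      have h3 := hc.is_comm.comm (a : L ⧸ Subgroup.center L) (b : L ⧸ Subgroup.center L)
      rw [commutatorElement_def, QuotientGroup.mk_mul, QuotientGroup.mk_mul, QuotientGroup.mk_mul, h3]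
      simp
    exact (QuotientGroup.eq_one_iff _).1 h2
  rw [H.perf] at h1
  obtain ⟨a, ha, b, hb, hab⟩ := H.nonab
  have h4 := Subgroup.mem_center_iff.1 (h1 (Subgroup.mem_top (⟨a, ha⟩ : L))) ⟨b, hb⟩
  exact hab (Subtype.ext_iff.1 h4).symm

/-- `p ∤ |Z(L)|` -/
theorem dvd_quot (H : QSP p K V G L h) (hpL : p ∣ Nat.card L) : p ∣ Nat.card (L ⧸ Subgroup.center L) := by
  have hK := H662.HT.QW.finiteK (QSP.qw H)
  rw [Subgroup.card_eq_card_quotient_mul_card_subgroup (Subgroup.center L)] at hpL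
  rcases (Nat.Prime.dvd_mul hp.out).1 hpL with h1 | h1
  · exact h1
  · exfalso
    obtain ⟨z, hz⟩ := exists_prime_orderOf_dvd_card' p h1
    obtain ⟨c, hc⟩ := H.endo (z : L) (fun l hl v => by
      have h2 := Subgroup.mem_center_iff.1 z.2 ⟨l, hl⟩
      have h3 : l * ((z : L) : V ≃ₗ[ZMod p] V) = ((z : L) : V ≃ₗ[ZMod p] V) * l := congrArg Subtype.val h2
      exact (LinearEquiv.congr_fun h3 v).symm)
    have hch := H662.HT.QW.charP (QSP.qw H)
    obtain ⟨v, hv⟩ := H662.HT.QW.exists_ne (QSP.qw H)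
    have hpow : ∀ (j : ℕ) (v : V), (((z : L) : V ≃ₗ[ZMod p] V) ^ j) v = c ^ j • v := by
      intro j
      induction j with
      | zero => intro v; rw [pow_zero, pow_zero, one_smul]; rfl
      | succ j ih =>
        intro v
        rw [pow_succ, pow_succ, LinearEquiv.mul_apply]
        have h5 : ((z : L) : V ≃ₗ[ZMod p] V) v = c • v := hc v
        rw [h5, ih, ← mul_smul]
    have hz1 : ((z : L) : V ≃ₗ[ZMod p] V) ^ p = 1 := by
      have h6 : z ^ p = 1 := orderOf_dvd_iff_pow_eq_one.1 (dvd_of_eq hz)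
      have h7 := congrArg (fun x : Subgroup.center L => ((x : L) : V ≃ₗ[ZMod p] V)) h6
      simpa using h7
    have h8 : c ^ p = 1 := by
      have h9 := hpow p v
      rw [hz1] at h9
      have h10 : (c ^ p - 1) • v = 0 := by rw [sub_smul, one_smul, sub_eq_zero]; exact h9.symm
      rcases smul_eq_zero.1 h10 with h11 | h11
      · exact sub_eq_zero.1 h11
      · exact absurd h11 hv
    have h12 : c = 1 := frobenius_inj K p (by rw [frobenius_def, frobenius_def, h8, one_pow])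
    have h13 : z = 1 := by
      apply Subtype.ext
      apply Subtype.ext
      apply LinearEquiv.ext
      intro v
      have := hc v
      rw [h12, one_smul] at this
      exact this
    rw [h13, orderOf_one] at hz
    exact hp.out.one_lt.ne hz

/-- **The frame.** -/
theorem frame (H : QSP p K V G L h) (hpL : p ∣ Nat.card L) (hkn : IsKnownSimple' (L ⧸ Subgroup.center L))
    (hL : ¬ IsLieTypeChar p (L ⧸ Subgroup.center L)) (hT : ¬ Tra G) {n : ℕ} (hn : Module.finrank K V = n) :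
    ∃ (F : Subfield K) (P : Subgroup (Matrix.GeneralLinearGroup (Fin n) F)) (m k : ℕ), CharP F p ∧ Core P ∧
      Nonempty (Soc P ≃* L ⧸ Subgroup.center L) ∧ IsKnownSimple' (Soc P) ∧ ¬ IsLieTypeChar p (Soc P) ∧
      p ∣ Nat.card (Soc P) ∧ 1 ≤ k ∧ Nat.card K = p ^ k ∧ m * h = Nat.card G ∧
      CP (Nat.card (Soc P)) (Nat.card (MulAut (Soc P))) n (p ^ k) m h ∧
      Nat.card (Soc P) ∣ H742.HT.glOrd (p ^ k) n ∧ Nat.card F - 1 ∣ p ^ k - 1 := by
  have hfK := H662.HT.QW.finiteK (QSP.qw H)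
  obtain ⟨F, P, -, -, hC, ⟨e⟩, -⟩ := H662.HT.exists_core (QSP.qw H) hn
  have hch := H662.HT.QW.charP_subfield (QSP.qw H) F
  obtain ⟨m, hm, hc, -, -, -⟩ := H192.Ht.QN.cp (QSP.ql H) H.dvd hT
  obtain ⟨k, hk, hk0⟩ := H192.Ht.QN.exists_card (QSP.ql H)
  have h1 : Nat.card (Soc P) = Nat.card (L ⧸ Subgroup.center L) := Nat.card_congr e.toEquiv
  have h2 : Nat.card (MulAut (Soc P)) = Nat.card (MulAut (L ⧸ Subgroup.center L)) :=
    Nat.card_congr (MulAut.congr e).toEquiv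
  have hnc := not_comm H
  have hnc' : ¬ IsMulCommutative (L ⧸ Subgroup.center L) := hnc
  refine ⟨F, P, m, k, hch, hC, ⟨e⟩, OddHalf.Known.isKnownSimple'_congr e.symm hnc' hkn,
    fun h3 => hL (OddHalf.Known.isLieTypeChar_congr e h3), ?_, hk0, hk, hm, ?_, ?_, ?_⟩
  · rw [h1]; exact dvd_quot H hpL
  · rw [h1, h2, ← hk, ← hn]; exact hc
  · rw [h1, glOrd_eq, ← hk, ← hn]
    exact (Subgroup.card_quotient_dvd_card _).trans (H192.Ht.QN.card_L_dvd_gl (QSP.ql H))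
  · rw [← hk]
    have h3 : Nat.card Fˣ ∣ Nat.card Kˣ := Subgroup.card_dvd_of_injective (Units.map (F.subtype : F →* K))
      (Units.map_injective F.subtype.injective)
    have : Fintype F := Fintype.ofFinite F
    have : Fintype K := Fintype.ofFinite K
    rwa [Nat.card_units, Nat.card_units] at h3

/-- **Degree `3, …, 12`.** -/
theorem cases_small (H : QSP p K V G L h) (hpL : p ∣ Nat.card L) (hkn : IsKnownSimple' (L ⧸ Subgroup.center L))
    (hL : ¬ IsLieTypeChar p (L ⧸ Subgroup.center L)) (hT : ¬ Tra G) (h3 : 3 ≤ Module.finrank K V)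
    (h12 : Module.finrank K V ≤ 12) : ∃ m, m * h = Nat.card G ∧
      SmSurv p (Module.finrank K V) (Nat.card K) m (L ⧸ Subgroup.center L) := by
  have hfK := H662.HT.QW.finiteK (QSP.qw H)
  obtain ⟨F, P, m, k, hch, hC, ⟨e⟩, h1, h2, h4, h5, h6, h7, h8, h9, h10⟩ := frame H hpL hkn hL hT rfl
  refine ⟨m, h7, ?_⟩
  rw [h6]
  exact (small hC h3 h12 h1 h2 h4 h5 h8 h9 h10).congr e

end Cfsg.Agent.H391.HT
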