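import Cfsg.Agent.H391.HT.Frame
import Cfsg.Agent.H192.Ht.AFive
import Cfsg.Agent.H953.HTA.G

/-!
# S3512: assembly of `RowP`

`Kill X l`: no quasisimple normal irreducible `L` with `L / Z(L)` of type `X`, and `(dim_K V, |K|, m)` in the list `l`, unless
`G` is transitive.  `rowP_of`: `RowP` from the pieces.
-/

set_option autoImplicit false
set_option linter.unusedSectionVars false

universe u

namespace Cfsg.Agent.H391.HT

open Cfsg Cfsg.Agent.H915.LD Cfsg.Agent.H828.HT Cfsg.Agent.H19.HT Cfsg.Agent.H337.HT Cfsg.Agent.H912.Bd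
  Cfsg.Agent.H936.List12

/-- the statement of a survivor row -/
def Kill (X : ∀ (T : Type u) [Group T], Prop) (l : List (ℕ × ℕ × ℕ)) : Prop :=
  ∀ (p : ℕ) [Fact p.Prime] (V : Type u) [AddCommGroup V] [Module (ZMod p) V] [Finite V] (K : Type u) [Field K]
    [Module K V] (G L : Subgroup (V ≃ₗ[ZMod p] V)) (h m : ℕ), QSP p K V G L h → p ∣ Nat.card L → ¬ Tra G →
    X (L ⧸ Subgroup.center L) → m * h = Nat.card G → (Module.finrank K V, Nat.card K, m) ∈ l → False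

/-- the pieces of `RowP` -/
structure Pieces : Prop where
  /-- own characteristic -/
  own : ∀ (p : ℕ) [Fact p.Prime] (V : Type u) [AddCommGroup V] [Module (ZMod p) V] [Finite V] (K : Type u) [Field K]
    [Module K V] (G L : Subgroup (V ≃ₗ[ZMod p] V)) (h : ℕ), QSP p K V G L h → p ∣ Nat.card L →
    IsLieTypeChar p (L ⧸ Subgroup.center L) → Tra G ∨ Exc G
  /-- degree two -/
  two : ∀ (p : ℕ) [Fact p.Prime] (V : Type u) [AddCommGroup V] [Module (ZMod p) V] [Finite V] (K : Type u) [Field K]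
    [Module K V] (G L : Subgroup (V ≃ₗ[ZMod p] V)) (h : ℕ), QSP p K V G L h → p ∣ Nat.card L →
    IsKnownSimple' (L ⧸ Subgroup.center L) → ¬ IsLieTypeChar p (L ⧸ Subgroup.center L) →
    Module.finrank K V = 2 → p = 3 ∧ Nonempty (L ⧸ Subgroup.center L ≃* alternatingGroup (Fin 5))
  /-- degree at least 13 -/
  big : ∀ (p : ℕ) [Fact p.Prime] (F : Type u) [Field F] [Finite F] [CharP F p] (n : ℕ)
    (P : Subgroup (Matrix.GeneralLinearGroup (Fin n) F)), Core P → 13 ≤ n → p ∣ Nat.card (Soc P) →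
    IsKnownSimple' (Soc P) → ¬ IsLieTypeChar p (Soc P) →
    DeadP p n (Soc P) ∨ (∃ c, 9 ≤ c ∧ Nonempty (Soc P ≃* alternatingGroup (Fin c))) ∨ IsSporadicGroup (Soc P)
  /-- sporadic groups in degree at least 13 -/
  spor : ∀ (p : ℕ) [Fact p.Prime] (V : Type u) [AddCommGroup V] [Module (ZMod p) V] [Finite V] (K : Type u) [Field K]
    [Module K V] (G L : Subgroup (V ≃ₗ[ZMod p] V)) (h : ℕ), QSP p K V G L h → p ∣ Nat.card L →
    13 ≤ Module.finrank K V → IsSporadicGroup (L ⧸ Subgroup.center L) → Tra G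
  a6 : Kill.{u} (fun T _ => Nonempty (T ≃* alternatingGroup (Fin 6))) [(4, 8, 315)]
  a7 : Kill.{u} (fun T _ => Nonempty (T ≃* alternatingGroup (Fin 7))) g_a7
  l27 : Kill.{u} (fun T _ => IsL 2 7 T) [(3, 9, 56), (4, 27, 1456), (6, 3, 56)]
  l213 : Kill.{u} (fun T _ => IsL 2 13 T) g_l2_13
  l217 : Kill.{u} (fun T _ => IsL 2 17 T) [(8, 2, 51)]
  u33 : Kill.{u} (fun T _ => IsU 3 3 T) [(6, 2, 21)]
  l34 : Kill.{u} (fun T _ => IsL 3 4 T) [(4, 27, 7280)]
  g24 : Kill.{u} (fun T _ => H912.Bd.IsG2 4 T) [(12, 3, 7280)]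
  u43 : Kill.{u} (fun T _ => IsU 4 3 T) [(6, 4, 315), (12, 2, 315)]
  m22 : Kill.{u} (fun T _ => Spor.IsoM22 T) [(6, 4, 315), (12, 2, 315)]
  j1 : ∀ (F : Type u) [Field F] [Finite F] [CharP F 11] (n : ℕ) (P : Subgroup (Matrix.GeneralLinearGroup (Fin n) F)),
    Core P → n ≤ 6 → Spor.IsoJ1 (Soc P) → False
  j2 : Kill.{u} (fun T _ => Spor.IsoJ2 T) [(6, 4, 315), (12, 2, 315)]
  suz : Kill.{u} (fun T _ => Spor.IsoSuz T) [(12, 3, 7280)]

/-- **The assembly.** -/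
theorem rowP_of (known : ∀ (T : Type u) [Group T] [Finite T] [IsSimpleGroup T], IsKnownSimple' T) (X : Pieces.{u}) :
    RowP.{u} := by
  intro p hp V _ _ _ K _ _ G L h H hpL
  by_cases hT : Tra G
  · exact Or.inl hT
  have hsim := H.simple
  have hkn := known (L ⧸ Subgroup.center L)
  by_cases hL : IsLieTypeChar p (L ⧸ Subgroup.center L)
  · exact X.own p V K G L h H hpL hL
  have hn2 := H192.Ht.QN.two_le_finrank (QSP.ql H)
  have ha5 : p = 3 → Nonempty (L ⧸ Subgroup.center L ≃* alternatingGroup (Fin 5)) → Tra G ∨ Exc G := by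
    rintro h3 ⟨e⟩
    subst h3
    exact H192.Ht.AFive.row H e
  have halt : ∀ c, 9 ≤ c → Nonempty (L ⧸ Subgroup.center L ≃* alternatingGroup (Fin c)) → Tra G := by
    rintro c hc ⟨e⟩
    exact H953.HTA.alt_row (QSP.ql H) H.dvd hc e
  obtain ⟨n, hn⟩ : ∃ n, Module.finrank K V = n := ⟨_, rfl⟩
  rcases Nat.lt_or_ge n 3 with h3 | h3
  · obtain ⟨h4, h5⟩ := X.two p V K G L h H hpL hkn hL (by omega)
    exact ha5 h4 h5
  rcases Nat.lt_or_ge n 13 with h13 | h13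
  · obtain ⟨m, hm, hs⟩ := cases_small H hpL hkn hL hT (by omega) (by omega)
    rcases hs with ⟨h1, h⟩ | ⟨h, -, h1⟩ | ⟨h, h1⟩ | ⟨c, h1, h⟩ | ⟨h, -, h1⟩ | ⟨h, h1⟩ | ⟨h, h1⟩ | ⟨h, h1⟩ |
      ⟨h, -, h1⟩ | ⟨h, h1⟩ | ⟨h, h1⟩ | ⟨h, h1⟩ | ⟨h, h1, h2⟩ | ⟨h, h1⟩ | ⟨h, h1⟩
    · exact ha5 h1 h
    · exact (X.a6 p V K G L _ m H hpL hT h hm h1).elim
    · exact (X.a7 p V K G L _ m H hpL hT h hm h1).elim
    · exact Or.inl (halt c h1 h)
    · exact (X.l27 p V K G L _ m H hpL hT h hm h1).elim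
    · exact (X.l213 p V K G L _ m H hpL hT h hm h1).elim
    · exact (X.l217 p V K G L _ m H hpL hT h hm h1).elim
    · exact (X.u33 p V K G L _ m H hpL hT h hm h1).elim
    · exact (X.l34 p V K G L _ m H hpL hT h hm h1).elim
    · exact (X.g24 p V K G L _ m H hpL hT h hm h1).elim
    · exact (X.u43 p V K G L _ m H hpL hT h hm h1).elim
    · exact (X.m22 p V K G L _ m H hpL hT h hm h1).elim
    · exfalso
      subst h1
      have hfK := H662.HT.QW.finiteK (QSP.qw H)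
      obtain ⟨F, P, m, k, hch, hC, ⟨e⟩, -⟩ := frame H hpL hkn hL hT rfl
      obtain ⟨e'⟩ := h
      exact X.j1 F _ P hC h2 ⟨e.trans e'⟩
    · exact (X.j2 p V K G L _ m H hpL hT h hm h1).elim
    · exact (X.suz p V K G L _ m H hpL hT h hm h1).elim
  · have hfK := H662.HT.QW.finiteK (QSP.qw H)
    obtain ⟨F, P, m, k, hch, hC, ⟨e⟩, h1, h2, h4, -⟩ := frame H hpL hkn hL hT hn
    rcases X.big p F n P hC h13 h4 h1 h2 with h5 | ⟨c, hc, ⟨e'⟩⟩ | h5
    · exact Or.inl (QSP.tra_of_deadP H (hn ▸ h5.congr e))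
    · exact Or.inl (halt c hc ⟨e.symm.trans e'⟩)
    · exact Or.inl (X.spor p V K G L h H hpL (by omega) (OddHalf.Known.isSporadic_congr e h5))

end Cfsg.Agent.H391.HT
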