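import Cfsg.Agent.H933.HT.U43
import Cfsg.Agent.H919.HT.MTT

/-!
# S3512, `p = 2`: `U₄(3)` does not occur (the Frobenius group `5:4` in `PSp₄(3)`)
-/

set_option autoImplicit false
set_option linter.unusedSectionVars false

universe u w

namespace Cfsg.Agent.H391.HT

open Cfsg Module Cfsg.Agent.H828.HT Cfsg.Agent.H742.HT Cfsg.Agent.H192.Ht Cfsg.Agent.H933.HT Cfsg.Agent.ClassicalGeometry.PSUAutBasic

theorem g5_pow : (g5 ^ 4).1 = -1 := by
  rw [SubmonoidClass.coe_pow]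
  decide

/-- `5:4` in `U₄(3)` -/
theorem u43_elts {F : Type*} [Field F] [Fintype F] (hF : Fintype.card F = 3 ^ 2) :
    ∃ y z : Cfsg.PSU 4 F 3, z ^ 5 = 1 ∧ z ≠ 1 ∧ y ^ 4 = 1 ∧ y * z * y⁻¹ = z ^ 2 := by
  have h3p : Fact (Nat.Prime 3) := ⟨Nat.prime_three⟩
  have hch := charP_three hF
  have h2 : (2 : F) ≠ 0 := by
    intro h
    have h3 : (3 : F) = 0 := by
      have := CharP.cast_eq_zero F 3
      exact_mod_cast this
    have : (1 : F) = 0 := by linear_combination h3 - h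
    exact one_ne_zero this
  obtain ⟨ψ, hψ, hc⟩ := H373.OC.exists_spSU (q := 3) hF h2 (ZMod.castHom (dvd_refl 3) F) (by
    intro x
    rw [← map_pow, ZMod.pow_card])
  refine ⟨pr 4 F 3 (ψ g5), pr 4 F 3 (ψ y5), ?_, ?_, ?_, ?_⟩
  · rw [← map_pow, ← map_pow, y5_pow, map_one, map_one]
  · intro h
    rw [pr_eq_one_iff] at h
    have h3 := Subgroup.mem_center_iff.1 h (ψ g5)
    rw [← map_mul, ← map_mul] at h3
    have h4 := hψ h3
    rw [g5_y5, pow_two, mul_assoc] at h4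
    have h5 := mul_left_cancel h4
    have h6 : y5 = 1 := mul_right_cancel (h5.trans (one_mul g5).symm)
    exact y5_ne h6
  · rw [← map_pow, ← map_pow, pr_eq_one_iff]
    exact hc _ g5_pow
  · rw [mul_inv_eq_iff_eq_mul, ← map_mul, ← map_mul, g5_y5, map_mul, map_mul, map_pow, map_pow]

variable {p : ℕ} [Fact p.Prime] {K : Type w} [Field K] {V : Type u} [AddCommGroup V] [Module (ZMod p) V] [Finite V]
    [Module K V] {G L : Subgroup (V ≃ₗ[ZMod p] V)} {h : ℕ}

/-- **`U₄(3)`** -/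
theorem u43 (H : QL p K V G L h) {m : ℕ} (hm : m * h = Nat.card G)
    (hl : (finrank K V, Nat.card K, m) ∈ [(6, 4, 315), (12, 2, 315)]) (hS : H912.Bd.IsU 4 3 (L ⧸ Subgroup.center L)) :
    False := by
  obtain ⟨F, _, _, hF, ⟨e⟩⟩ := hS
  obtain ⟨y, z, h1, h2, h3, h4⟩ := u43_elts hF
  have hG := QN.card_G_dvd H
  have hA : Nat.card (MulAut (L ⧸ Subgroup.center L)) = 26127360 := by
    rw [← u43_aut hF]
    exact Nat.card_congr (MulAut.congr e).toEquiv
  rw [hA] at hG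
  refine H919.HT.MTT.five_four H hm hl (fun h5 => ?_) (y := e.symm y) (z := e.symm z) ?_ ?_ ?_ ?_
  · simp only [List.mem_cons, Prod.mk.injEq, List.not_mem_nil, or_false] at hl
    have h6 := h5.trans hG
    rcases hl with ⟨-, h7, -⟩ | ⟨-, h7, -⟩ <;> rw [h7] at h6 <;> revert h6 <;> decide
  · rw [← map_pow, h1, map_one]
  · intro h5
    exact h2 (e.symm.injective (by rw [h5, map_one]))
  · rw [← map_pow, h3, map_one]
  · rw [← map_inv, ← map_mul, ← map_mul, ← map_pow, h4]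

end Cfsg.Agent.H391.HT
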