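import Cfsg.Agent.H391.HT.AsmP
import Cfsg.Agent.H391.HT.UFourThree
import Cfsg.Agent.H306.HT.RowOwn
import Cfsg.Agent.H333.HT.LThreeFour
import Cfsg.Agent.H828.HT.RowQ
import Cfsg.Agent.H828.HT.KillU33
import Cfsg.Agent.H138.HT.CompsP
import Cfsg.Agent.H19.HT.EOneP
import Cfsg.Agent.H19.RP.Two
import Cfsg.Agent.H800.HT.Surv
import Cfsg.Agent.H742.HT.L213
import Cfsg.Agent.H919.HT.MTT
import Cfsg.Agent.H953.HTS.Rows
import Cfsg.Agent.H337.HT.BigP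
import Cfsg.Agent.H337.HT.SporK
import Cfsg.Agent.H192.Ht.A7
import Cfsg.Agent.H506.HT.JTwo

/-!
# S3512: `RowP` (all pieces but `J₁`) and the last assembly
-/

set_option autoImplicit false
set_option linter.unusedVariables false

universe u

namespace Cfsg.Agent.H391.HT

open Cfsg Cfsg.Agent.H915.LD Cfsg.Agent.H828.HT Cfsg.Agent.H19.HT Cfsg.Agent.H337.HT Cfsg.Agent.H912.Bd
  Cfsg.Agent.H936.List12

theorem p_l34 : Kill.{u} (fun T _ => IsL 3 4 T) [(4, 27, 7280)] := by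
  intro p hp V _ _ _ K _ _ G L h m H hpL hT hS hm hl
  simp only [List.mem_cons, List.not_mem_nil, or_false, Prod.mk.injEq] at hl
  exact H333.HT.LThreeFour.kill' H hS hm hl.1 hl.2.1 hl.2.2

theorem p_l213 : Kill.{u} (fun T _ => IsL 2 13 T) g_l2_13 := by
  intro p hp V _ _ _ K _ _ G L h m H hpL hT hS hm hl
  obtain ⟨m', hm', -, -, hpm, hm0⟩ := H192.Ht.QN.cp (QSP.ql H) H.dvd hT
  have h0 : 0 < h := by have := H.two_le; omega
  have he : m' = m := Nat.eq_of_mul_eq_mul_right h0 (hm'.trans hm.symm)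
  exact H742.HT.L213.row (QSP.ql H) hS hm (he ▸ hpm) hl

theorem p_g24 : Kill.{u} (fun T _ => H912.Bd.IsG2 4 T) [(12, 3, 7280)] := by
  intro p hp V _ _ _ K _ _ G L h m H hpL hT hS hm hl
  simp only [List.mem_cons, List.not_mem_nil, or_false, Prod.mk.injEq] at hl
  exact H953.HTS.g24 (QSP.ql H) hS hl.1 hl.2.1 (hl.2.2 ▸ hm)

theorem p_suz : Kill.{u} (fun T _ => Spor.IsoSuz T) [(12, 3, 7280)] := by
  intro p hp V _ _ _ K _ _ G L h m H hpL hT hS hm hl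
  simp only [List.mem_cons, List.not_mem_nil, or_false, Prod.mk.injEq] at hl
  exact H953.HTS.suz (QSP.ql H) hS hl.1 hl.2.1 (hl.2.2 ▸ hm)

theorem p_a7 : Kill.{u} (fun T _ => Nonempty (T ≃* alternatingGroup (Fin 7))) g_a7 := by
  intro p hp V _ _ _ K _ _ G L h m H hpL hT hS hm hl
  obtain ⟨e⟩ := hS
  exact hT (H192.Ht.ASeven.row (QSP.ql H) e H.dvd)

theorem p_big (p : ℕ) [Fact p.Prime] (F : Type u) [Field F] [Finite F] [CharP F p] (n : ℕ)
    (P : Subgroup (Matrix.GeneralLinearGroup (Fin n) F)) (hC : Core P) (hn : 13 ≤ n) (hp : p ∣ Nat.card (Soc P))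
    (hk : IsKnownSimple' (Soc P)) (hL : ¬ IsLieTypeChar p (Soc P)) :
    DeadP p n (Soc P) ∨ (∃ c, 9 ≤ c ∧ Nonempty (Soc P ≃* alternatingGroup (Fin c))) ∨ IsSporadicGroup (Soc P) :=
  H337.HT.BigP.big hC hn hp hk hL

theorem pieces (j1 : ∀ (F : Type u) [Field F] [Finite F] [CharP F 11] (n : ℕ)
    (P : Subgroup (Matrix.GeneralLinearGroup (Fin n) F)), Core P → n ≤ 6 → Spor.IsoJ1 (Soc P) → False) :
    Pieces.{u} where
  own := fun p _ V _ _ _ K _ _ G L h H _ hL => Or.inl (H306.HT.own H hL)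
  two := fun _ _ _ _ _ _ _ _ _ _ _ _ H hp _ hn h2 => H19.RP.two_row (QSP.ql H) h2 hp hn
  big := fun p _ F _ _ _ n P hC hn hp hk hL => p_big p F n P hC hn hp hk hL
  spor := fun _ _ _ _ _ _ _ _ _ _ _ _ H hpL hn hS => H337.HT.SporK.spor_tra H hpL hn hS
  a6 := H800.HT.kill_a6
  a7 := p_a7
  l27 := H800.HT.kill_l27
  l213 := p_l213
  l217 := H800.HT.kill_l217
  u33 := fun _ _ _ _ _ _ _ _ _ _ _ _ _ H _ _ hS hm hl => H828.HT.KillU33.kill H hm hS hl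
  l34 := p_l34
  g24 := p_g24
  u43 := fun _ _ _ _ _ _ _ _ _ _ _ _ _ H _ _ hS hm hl => u43 (QSP.ql H) hm hl hS
  m22 := fun _ _ _ _ _ _ _ _ _ _ _ _ _ H _ _ hS hm hl => H919.HT.MTT.m22 (QSP.ql H) hm hl hS
  j1 := j1
  j2 := fun _ _ _ _ _ _ _ _ _ _ _ _ _ H _ _ hS hm hl => H506.HT.j2 H hS hm hl
  suz := p_suz

theorem ext (known : ∀ (T : Type u) [Group T] [Finite T] [IsSimpleGroup T], IsKnownSimple' T) (X : Pieces.{u}) :
    ExtP.{u} :=
  ⟨rowP_of known X, H828.HT.RowQ.rowQ known, H138.HT.comps_falseP, e1P⟩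

end Cfsg.Agent.H391.HT
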