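import Cfsg.Agent.H391.HT.Tool
import Cfsg.Agent.H742.HT.QL
import Cfsg.Agent.H530.HT.SmAll
import Cfsg.Agent.H30.HTS.Spor
import Cfsg.Agent.H348.HT.AltDead
import Cfsg.Agent.H936.List12c
import Cfsg.Agent.H64.HT.Cop
import Cfsg.Agent.H659.J1Not11
import Cfsg.Agent.H878.Sz.MainP3
import Cfsg.Agent.S2126
import Cfsg.Agent.S1163

/-!
# S3512, quasisimple rows, degree `3 ≤ n ≤ 12`: the numerical survivors

`small`: `P ≤ GL_n(F)` a core, `3 ≤ n ≤ 12`, `p = char F` divides `|Soc P|`, `Soc P` a known simple group not of Lie type in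
characteristic `p`, and `(q, m, h)` a solution of the numerical conditions `CP`: then `SmSurv`.
-/

set_option autoImplicit false
set_option linter.unusedSectionVars false
set_option maxRecDepth 100000

universe u v

namespace Cfsg.Agent.H391.HT

open Cfsg Cfsg.Geo Cfsg.Agent.H915.LD Cfsg.Agent.H912.Bd Cfsg.Agent.H936.List12

def ex_a5 : List (ℕ × ℕ × ℕ) := [(4, 3, 40), (4, 3, 20), (4, 9, 160), (4, 27, 1040)]

theorem s_a5 {T : Type v} [Group T] {p n : ℕ} (hp : p.Prime) (ho : Nat.card T = 60)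
    (hA : Nat.card (MulAut T) ∣ 120) (hn : 3 ≤ n) (hm : p ∈ [3]) : Surv ex_a5 p n T :=
surv [(3, 1, 40)] 15 10 9 hp ho hA (by norm_num) hn (by decide +kernel) hm

def ex_a6 : List (ℕ × ℕ × ℕ) := [(4, 8, 315)]

theorem s_a6 {T : Type v} [Group T] {p n : ℕ} (hp : p.Prime) (ho : Nat.card T = 360)
    (hA : Nat.card (MulAut T) ∣ 1440) (hn : 3 ≤ n) (hm : p ∈ [2, 5]) : Surv ex_a6 p n T :=
surv [(2, 5, 45), (5, 1, 288)] 10 14 13 hp ho hA (by norm_num) hn (by decide +kernel) hm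

def ex_a7 : List (ℕ × ℕ × ℕ) := [(3, 4, 21), (3, 16, 315), (4, 8, 315), (6, 2, 21), (6, 4, 315), (12, 2, 315), (4,
    3, 40), (4, 3, 20), (4, 27, 7280), (4, 27, 3640), (3, 25, 504), (4, 125, 31248), (6, 5, 504), (4, 7, 480), (4,
    7, 240)]

def g_a7 : List (ℕ × ℕ × ℕ) := [(3, 4, 21), (3, 16, 315), (4, 8, 315), (6, 2, 21), (6, 4, 315), (12, 2, 315), (4,
    27, 7280), (4, 27, 3640), (3, 25, 504), (4, 125, 31248), (6, 5, 504), (4, 7, 480), (4, 7, 240)]

theorem s_a7 {T : Type v} [Group T] {p n : ℕ} (hp : p.Prime) (ho : Nat.card T = 2520)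
    (hA : Nat.card (MulAut T) ∣ 5040) (hn : 3 ≤ n) (hm : p ∈ [2, 3, 5, 7]) : Surv ex_a7 p n T :=
surv [(2, 4, 315), (3, 2, 560), (5, 1, 1008), (7, 1, 720)] 18 20 19 hp ho hA (by norm_num) hn (by decide +kernel) hm

def ex_a8 : List (ℕ × ℕ × ℕ) := [(4, 3, 40), (4, 3, 20), (4, 27, 7280), (4, 7, 480), (4, 7, 240)]

theorem s_a8 {T : Type v} [Group T] {p n : ℕ} (hp : p.Prime) (ho : Nat.card T = 20160)
    (hA : Nat.card (MulAut T) ∣ 40320) (hn : 3 ≤ n) (hm : p ∈ [3, 5, 7]) : Surv ex_a8 p n T :=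
surv [(3, 2, 4480), (5, 1, 8064), (7, 1, 5760)] 18 18 17 hp ho hA (by norm_num) hn (by decide +kernel) hm

def ex_l2_7 : List (ℕ × ℕ × ℕ) := [(3, 9, 56), (4, 27, 1456), (6, 3, 56)]

theorem s_l2_7 {T : Type v} [Group T] {p n : ℕ} (hp : p.Prime) (ho : Nat.card T = 168)
    (hA : Nat.card (MulAut T) ∣ 336) (hn : 3 ≤ n) (hm : p ∈ [3]) : Surv ex_l2_7 p n T :=
surv [(3, 1, 112)] 6 12 11 hp ho hA (by norm_num) hn (by decide +kernel) hm

def ex_l2_8 : List (ℕ × ℕ × ℕ) := []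

theorem s_l2_8 {T : Type v} [Group T] {p n : ℕ} (hp : p.Prime) (ho : Nat.card T = 504)
    (hA : Nat.card (MulAut T) ∣ 1512) (hn : 7 ≤ n) (hm : p ∈ [3, 7]) : Surv ex_l2_8 p n T :=
surv [(3, 3, 56), (7, 1, 216)] 4 4 5 hp ho hA (by norm_num) hn (by decide +kernel) hm

def ex_l2_11 : List (ℕ × ℕ × ℕ) := []

theorem s_l2_11 {T : Type v} [Group T] {p n : ℕ} (hp : p.Prime) (ho : Nat.card T = 660)
    (hA : Nat.card (MulAut T) ∣ 1320) (hn : 5 ≤ n) (hm : p ∈ [2, 3, 5]) : Surv ex_l2_11 p n T :=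
surv [(2, 3, 165), (3, 1, 440), (5, 1, 264)] 5 8 15 hp ho hA (by norm_num) hn (by decide +kernel) hm

def ex_l2_13 : List (ℕ × ℕ × ℕ) := [(6, 2, 21), (6, 4, 819), (6, 4, 273), (12, 2, 273), (6, 3, 364), (6, 3, 182),
    (6, 3, 104), (6, 3, 91), (6, 9, 1456), (12, 3, 1456)]

def g_l2_13 : List (ℕ × ℕ × ℕ) := [(6, 4, 819), (6, 4, 273), (12, 2, 273), (6, 3, 364), (6, 3, 182), (6, 3, 104),
    (6, 3, 91), (6, 9, 1456), (12, 3, 1456)]

theorem s_l2_13 {T : Type v} [Group T] {p n : ℕ} (hp : p.Prime) (ho : Nat.card T = 1092)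
    (hA : Nat.card (MulAut T) ∣ 2184) (hn : 6 ≤ n) (hm : p ∈ [2, 3, 7]) : Surv ex_l2_13 p n T :=
surv [(2, 3, 273), (3, 1, 728), (7, 1, 312)] 40 7 16 hp ho hA (by norm_num) hn (by decide +kernel) hm

def ex_l2_17 : List (ℕ × ℕ × ℕ) := [(8, 2, 51)]

theorem s_l2_17 {T : Type v} [Group T] {p n : ℕ} (hp : p.Prime) (ho : Nat.card T = 2448)
    (hA : Nat.card (MulAut T) ∣ 4896) (hn : 8 ≤ n) (hm : p ∈ [2, 3]) : Surv ex_l2_17 p n T :=
surv [(2, 5, 153), (3, 2, 544)] 8 5 12 hp ho hA (by norm_num) hn (by decide +kernel) hm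

def ex_l2_19 : List (ℕ × ℕ × ℕ) := []

theorem s_l2_19 {T : Type v} [Group T] {p n : ℕ} (hp : p.Prime) (ho : Nat.card T = 3420)
    (hA : Nat.card (MulAut T) ∣ 6840) (hn : 9 ≤ n) (hm : p ∈ [2, 3, 5]) : Surv ex_l2_19 p n T :=
surv [(2, 3, 855), (3, 2, 760), (5, 1, 1368)] 5 5 16 hp ho hA (by norm_num) hn (by decide +kernel) hm

def ex_l2_23 : List (ℕ × ℕ × ℕ) := []

theorem s_l2_23 {T : Type v} [Group T] {p n : ℕ} (hp : p.Prime) (ho : Nat.card T = 6072)
    (hA : Nat.card (MulAut T) ∣ 12144) (hn : 11 ≤ n) (hm : p ∈ [2, 3, 11]) : Surv ex_l2_23 p n T :=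
surv [(2, 4, 759), (3, 1, 4048), (11, 1, 1104)] 4 5 14 hp ho hA (by norm_num) hn (by decide +kernel) hm

def ex_l2_25 : List (ℕ × ℕ × ℕ) := []

theorem s_l2_25 {T : Type v} [Group T] {p n : ℕ} (hp : p.Prime) (ho : Nat.card T = 7800)
    (hA : Nat.card (MulAut T) ∣ 31200) (hn : 12 ≤ n) (hm : p ∈ [2, 3, 13]) : Surv ex_l2_25 p n T :=
surv [(2, 5, 975), (3, 1, 10400), (13, 1, 2400)] 8 5 13 hp ho hA (by norm_num) hn (by decide +kernel) hm

def ex_l33 : List (ℕ × ℕ × ℕ) := []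

theorem s_l33 {T : Type v} [Group T] {p n : ℕ} (hp : p.Prime) (ho : Nat.card T = 5616)
    (hA : Nat.card (MulAut T) ∣ 11232) (hn : 8 ≤ n) (hm : p ∈ [2, 13]) : Surv ex_l33 p n T :=
surv [(2, 5, 351), (13, 1, 864)] 6 5 14 hp ho hA (by norm_num) hn (by decide +kernel) hm

def ex_u33 : List (ℕ × ℕ × ℕ) := [(6, 2, 21)]

theorem s_u33 {T : Type v} [Group T] {p n : ℕ} (hp : p.Prime) (ho : Nat.card T = 6048)
    (hA : Nat.card (MulAut T) ∣ 12096) (hn : 6 ≤ n) (hm : p ∈ [2, 7]) : Surv ex_u33 p n T :=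
surv [(2, 6, 189), (7, 1, 1728)] 14 7 15 hp ho hA (by norm_num) hn (by decide +kernel) hm

def ex_u34 : List (ℕ × ℕ × ℕ) := []

theorem s_u34 {T : Type v} [Group T] {p n : ℕ} (hp : p.Prime) (ho : Nat.card T = 62400)
    (hA : Nat.card (MulAut T) ∣ 249600) (hn : 12 ≤ n) (hm : p ∈ [3, 5, 13]) : Surv ex_u34 p n T :=
surv [(3, 1, 83200), (5, 2, 9984), (13, 1, 19200)] 6 5 14 hp ho hA (by norm_num) hn (by decide +kernel) hm

def ex_u42 : List (ℕ × ℕ × ℕ) := []

theorem s_u42 {T : Type v} [Group T] {p n : ℕ} (hp : p.Prime) (ho : Nat.card T = 25920)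
    (hA : Nat.card (MulAut T) ∣ 51840) (hn : 4 ≤ n) (hm : p ∈ [5]) : Surv ex_u42 p n T :=
surv [(5, 1, 10368)] 6 8 12 hp ho hA (by norm_num) hn (by decide +kernel) hm

def ex_u52 : List (ℕ × ℕ × ℕ) := []

theorem s_u52 {T : Type v} [Group T] {p n : ℕ} (hp : p.Prime) (ho : Nat.card T = 13685760)
    (hA : Nat.card (MulAut T) ∣ 27371520) (hn : 8 ≤ n) (hm : p ∈ [3, 5, 11]) : Surv ex_u52 p n T :=
surv [(3, 5, 112640), (5, 1, 5474304), (11, 1, 2488320)] 6 6 18 hp ho hA (by norm_num) hn (by decide +kernel) hm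

def ex_s45 : List (ℕ × ℕ × ℕ) := [(12, 2, 585)]

theorem s_s45 {T : Type v} [Group T] {p n : ℕ} (hp : p.Prime) (ho : Nat.card T = 4680000)
    (hA : Nat.card (MulAut T) ∣ 9360000) (hn : 12 ≤ n) (hm : p ∈ [2, 3, 13]) : Surv ex_s45 p n T :=
surv [(2, 7, 73125), (3, 2, 1040000), (13, 1, 720000)] 16 6 26 hp ho hA (by norm_num) hn (by decide +kernel) hm

def ex_s62 : List (ℕ × ℕ × ℕ) := []

theorem s_s62 {T : Type v} [Group T] {p n : ℕ} (hp : p.Prime) (ho : Nat.card T = 1451520)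
    (hA : Nat.card (MulAut T) ∣ 1451520) (hn : 7 ≤ n) (hm : p ∈ [3, 5, 7]) : Surv ex_s62 p n T :=
surv [(3, 4, 17920), (5, 1, 290304), (7, 1, 207360)] 6 6 16 hp ho hA (by norm_num) hn (by decide +kernel) hm

def ex_o82 : List (ℕ × ℕ × ℕ) := []

theorem s_o82 {T : Type v} [Group T] {p n : ℕ} (hp : p.Prime) (ho : Nat.card T = 174182400)
    (hA : Nat.card (MulAut T) ∣ 1045094400) (hn : 7 ≤ n) (hm : p ∈ [3, 5, 7]) : Surv ex_o82 p n T :=
surv [(3, 6, 1433600), (5, 2, 41803776), (7, 1, 149299200)] 6 8 24 hp ho hA (by norm_num) hn (by decide +kernel) hm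

def ex_l34_3 : List (ℕ × ℕ × ℕ) := [(4, 3, 40), (4, 3, 20), (4, 27, 7280)]

def g_l34_3 : List (ℕ × ℕ × ℕ) := [(4, 27, 7280)]

theorem s_l34_3 {T : Type v} [Group T] {p n : ℕ} (hp : p.Prime) (ho : Nat.card T = 20160)
    (hA : Nat.card (MulAut T) ∣ 241920) (hn : 4 ≤ n) (hm : p ∈ [3]) : Surv ex_l34_3 p n T :=
surv [(3, 3, 8960)] 18 11 18 hp ho hA (by norm_num) hn (by decide +kernel) hm

def ex_l34 : List (ℕ × ℕ × ℕ) := []

theorem s_l34 {T : Type v} [Group T] {p n : ℕ} (hp : p.Prime) (ho : Nat.card T = 20160)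
    (hA : Nat.card (MulAut T) ∣ 241920) (hn : 6 ≤ n) (hm : p ∈ [5, 7]) : Surv ex_l34 p n T :=
surv [(5, 1, 48384), (7, 1, 34560)] 9 6 12 hp ho hA (by norm_num) hn (by decide +kernel) hm

def ex_g24 : List (ℕ × ℕ × ℕ) := [(12, 3, 7280)]

theorem s_g24 {T : Type v} [Group T] {p n : ℕ} (hp : p.Prime) (ho : Nat.card T = 251596800)
    (hA : Nat.card (MulAut T) ∣ 503193600) (hn : 12 ≤ n) (hm : p ∈ [3, 5, 7, 13]) : Surv ex_g24 p n T :=
surv [(3, 3, 18636800), (5, 2, 20127744), (7, 1, 71884800), (13, 1, 38707200)] 18 6 24 hp ho hA (by norm_num) hn (by decide +kernel)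
    hm

def ex_u43 : List (ℕ × ℕ × ℕ) := [(3, 4, 21), (3, 16, 315), (4, 8, 315), (6, 2, 21), (6, 4, 315), (12, 2, 315), (4,
    7, 480), (4, 7, 240)]

def g_u43 : List (ℕ × ℕ × ℕ) := [(6, 4, 315), (12, 2, 315)]

theorem s_u43 {T : Type v} [Group T] {p n : ℕ} (hp : p.Prime) (ho : Nat.card T = 3265920)
    (hA : Nat.card (MulAut T) ∣ 26127360) (hn : 3 ≤ n) (hm : p ∈ [2, 5, 7]) : Surv ex_u43 p n T :=
surv [(2, 10, 25515), (5, 1, 5225472), (7, 1, 3732480)] 17 33 32 hp ho hA (by norm_num) hn (by decide +kernel) hm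

def ex_sz8 : List (ℕ × ℕ × ℕ) := []

theorem s_sz8 {T : Type v} [Group T] {p n : ℕ} (hp : p.Prime) (ho : Nat.card T = 29120)
    (hA : Nat.card (MulAut T) ∣ 87360) (hn : 7 ≤ n) (hm : p ∈ [5, 7, 13]) : Surv ex_sz8 p n T :=
surv [(5, 1, 17472), (7, 1, 12480), (13, 1, 6720)] 6 5 10 hp ho hA (by norm_num) hn (by decide +kernel) hm

def ex_m11 : List (ℕ × ℕ × ℕ) := [(4, 8, 315), (4, 3, 40), (4, 3, 20)]

def g_m11 : List (ℕ × ℕ × ℕ) := []

theorem s_m11 {T : Type v} [Group T] {p n : ℕ} (hp : p.Prime) (ho : Nat.card T = 7920)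
    (hA : Nat.card (MulAut T) ∣ 7920) (hn : 3 ≤ n) (hm : p ∈ [2, 3, 5, 11]) : Surv ex_m11 p n T :=
surv [(2, 4, 495), (3, 2, 880), (5, 1, 1584), (11, 1, 720)] 15 21 20 hp ho hA (by norm_num) hn (by decide +kernel) hm

def ex_m12 : List (ℕ × ℕ × ℕ) := [(4, 8, 315), (4, 3, 40), (4, 3, 20)]

def g_m12 : List (ℕ × ℕ × ℕ) := []

theorem s_m12 {T : Type v} [Group T] {p n : ℕ} (hp : p.Prime) (ho : Nat.card T = 95040)
    (hA : Nat.card (MulAut T) ∣ 190080) (hn : 3 ≤ n) (hm : p ∈ [2, 3, 5, 11]) : Surv ex_m12 p n T :=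
surv [(2, 7, 1485), (3, 3, 7040), (5, 1, 38016), (11, 1, 17280)] 15 25 24 hp ho hA (by norm_num) hn (by decide +kernel) hm

def ex_m22 : List (ℕ × ℕ × ℕ) := [(3, 4, 21), (3, 16, 315), (4, 8, 315), (6, 2, 21), (6, 4, 315), (12, 2, 315), (4,
    3, 40), (4, 3, 20), (4, 27, 7280), (4, 7, 480), (4, 7, 240)]

def g_m22 : List (ℕ × ℕ × ℕ) := [(6, 4, 315), (12, 2, 315)]

theorem s_m22 {T : Type v} [Group T] {p n : ℕ} (hp : p.Prime) (ho : Nat.card T = 443520)
    (hA : Nat.card (MulAut T) ∣ 887040) (hn : 3 ≤ n) (hm : p ∈ [2, 3, 5, 7, 11]) : Surv ex_m22 p n T :=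
surv [(2, 8, 3465), (3, 2, 98560), (5, 1, 177408), (7, 1, 126720), (11, 1, 80640)] 18 27 26 hp ho hA (by norm_num)
    hn (by decide +kernel) hm

def ex_m23 : List (ℕ × ℕ × ℕ) := [(12, 2, 315)]

theorem s_m23 {T : Type v} [Group T] {p n : ℕ} (hp : p.Prime) (ho : Nat.card T = 10200960)
    (hA : Nat.card (MulAut T) ∣ 10200960) (hn : 11 ≤ n) (hm : p ∈ [2, 3, 5, 7, 11, 23]) : Surv ex_m23 p n T :=
surv [(2, 7, 79695), (3, 2, 1133440), (5, 1, 2040192), (7, 1, 1457280), (11, 1, 927360), (23, 1, 443520)] 10 6 27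
    hp ho hA (by norm_num) hn (by decide +kernel) hm

def ex_m24 : List (ℕ × ℕ × ℕ) := [(12, 2, 315)]

theorem s_m24 {T : Type v} [Group T] {p n : ℕ} (hp : p.Prime) (ho : Nat.card T = 244823040)
    (hA : Nat.card (MulAut T) ∣ 244823040) (hn : 11 ≤ n) (hm : p ∈ [2, 3, 5, 7, 11, 23]) : Surv ex_m24 p n T :=
surv [(2, 10, 239085), (3, 3, 9067520), (5, 1, 48964608), (7, 1, 34974720), (11, 1, 22256640), (23, 1, 10644480)]
    10 7 30 hp ho hA (by norm_num) hn (by decide +kernel) hm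

def ex_j1b : List (ℕ × ℕ × ℕ) := []

theorem s_j1b {T : Type v} [Group T] {p n : ℕ} (hp : p.Prime) (ho : Nat.card T = 175560)
    (hA : Nat.card (MulAut T) ∣ 175560) (hn : 7 ≤ n) (hm : p ∈ [2, 3, 5, 7, 11, 19]) : Surv ex_j1b p n T :=
surv [(2, 3, 21945), (3, 1, 58520), (5, 1, 35112), (7, 1, 25080), (11, 1, 15960), (19, 1, 9240)] 7 8 27 hp ho hA
    (by norm_num) hn (by decide +kernel) hm

def ex_j2 : List (ℕ × ℕ × ℕ) := [(3, 4, 21), (3, 16, 315), (4, 8, 315), (6, 2, 21), (6, 4, 315), (12, 2, 315), (4,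
    3, 40), (4, 3, 20), (4, 27, 7280), (4, 7, 1200), (4, 7, 800), (4, 7, 600), (4, 7, 480), (4, 7, 400), (4, 7,
    300), (4, 7, 240), (4, 7, 200)]

def g_j2 : List (ℕ × ℕ × ℕ) := [(3, 16, 315), (6, 4, 315), (12, 2, 315), (4, 7, 1200), (4, 7, 800), (4, 7, 600),
    (4, 7, 480), (4, 7, 400), (4, 7, 300), (4, 7, 240), (4, 7, 200)]

theorem s_j2 {T : Type v} [Group T] {p n : ℕ} (hp : p.Prime) (ho : Nat.card T = 604800)
    (hA : Nat.card (MulAut T) ∣ 1209600) (hn : 3 ≤ n) (hm : p ∈ [2, 3, 5, 7]) : Surv ex_j2 p n T :=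
surv [(2, 8, 4725), (3, 3, 44800), (5, 2, 48384), (7, 1, 172800)] 72 28 27 hp ho hA (by norm_num) hn (by decide +kernel) hm

def ex_j3 : List (ℕ × ℕ × ℕ) := [(4, 4, 85), (4, 4, 51), (4, 8, 315), (8, 2, 85), (8, 2, 51), (4, 3, 40), (4, 3,
    20), (4, 17, 2880)]

def g_j3 : List (ℕ × ℕ × ℕ) := []

theorem s_j3 {T : Type v} [Group T] {p n : ℕ} (hp : p.Prime) (ho : Nat.card T = 50232960)
    (hA : Nat.card (MulAut T) ∣ 100465920) (hn : 3 ≤ n) (hm : p ∈ [2, 3, 5, 17, 19]) : Surv ex_j3 p n T :=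
surv [(2, 8, 392445), (3, 5, 413440), (5, 1, 20093184), (17, 1, 5909760), (19, 1, 5287680)] 25 41 40 hp ho hA (by
    norm_num) hn (by decide +kernel) hm

def ex_suz : List (ℕ × ℕ × ℕ) := [(12, 2, 1365), (12, 2, 819), (12, 2, 585), (12, 2, 455), (12, 2, 315), (12, 2,
    273), (12, 3, 7280)]

def g_suz : List (ℕ × ℕ × ℕ) := [(12, 2, 1365), (12, 2, 819), (12, 2, 585), (12, 2, 455), (12, 2, 315), (12, 2,
    273), (12, 3, 7280)]

theorem s_suz {T : Type v} [Group T] {p n : ℕ} (hp : p.Prime) (ho : Nat.card T = 448345497600)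
    (hA : Nat.card (MulAut T) ∣ 896690995200) (hn : 12 ≤ n) (hm : p ∈ [2, 3, 5, 7, 11, 13]) : Surv ex_suz p n T :=
surv [(2, 14, 54729675), (3, 7, 410009600), (5, 2, 35867639808), (7, 1, 128098713600), (11, 1, 81517363200), (13,
    1, 68976230400)] 93 8 45 hp ho hA (by norm_num) hn (by decide +kernel) hm

/-- the survivors in degree `3, …, 12` (`A_c`, `c ≥ 9`, not treated) -/
def SmSurv (p n q m : ℕ) (T : Type v) [Group T] : Prop :=
  (p = 3 ∧ Nonempty (T ≃* alternatingGroup (Fin 5))) ∨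
  (Nonempty (T ≃* alternatingGroup (Fin 6)) ∧ p = 2 ∧ (n, q, m) ∈ ex_a6) ∨
  (Nonempty (T ≃* alternatingGroup (Fin 7)) ∧ (n, q, m) ∈ g_a7) ∨
  (∃ c, 9 ≤ c ∧ Nonempty (T ≃* alternatingGroup (Fin c))) ∨
  (IsL 2 7 T ∧ p = 3 ∧ (n, q, m) ∈ ex_l2_7) ∨
  (IsL 2 13 T ∧ (n, q, m) ∈ g_l2_13) ∨
  (IsL 2 17 T ∧ (n, q, m) ∈ ex_l2_17) ∨
  (IsU 3 3 T ∧ (n, q, m) ∈ ex_u33) ∨
  (IsL 3 4 T ∧ p = 3 ∧ (n, q, m) ∈ g_l34_3) ∨
  (H912.Bd.IsG2 4 T ∧ (n, q, m) ∈ ex_g24) ∨
  (IsU 4 3 T ∧ (n, q, m) ∈ g_u43) ∨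
  (Spor.IsoM22 T ∧ (n, q, m) ∈ g_m22) ∨
  (Spor.IsoJ1 T ∧ p = 11 ∧ n ≤ 6) ∨
  (Spor.IsoJ2 T ∧ (n, q, m) ∈ [(6, 4, 315), (12, 2, 315)]) ∨
  (Spor.IsoSuz T ∧ (n, q, m) ∈ [(12, 3, 7280)])

section

variable {F : Type u} [Field F] [Finite F] {n p : ℕ} [hp : Fact p.Prime] [CharP F p]
  {P : Subgroup (Matrix.GeneralLinearGroup (Fin n) F)}

theorem nil {ex : List (ℕ × ℕ × ℕ)} {n q m : ℕ} (he : ex = []) (h : (n, q, m) ∈ ex) : False := by
  rw [he] at h
  exact List.not_mem_nil h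

/-- the condition `o ∣ |GL_n(q)|` -/
def gl (o : ℕ) (ex : List (ℕ × ℕ × ℕ)) : List (ℕ × ℕ × ℕ) :=
  ex.filter fun x => Nat.beq (H742.HT.glOrd x.2.1 x.1 % o) 0

theorem filt {o n q m : ℕ} {ex ex' : List (ℕ × ℕ × ℕ)} (h : (n, q, m) ∈ ex) (hg : o ∣ H742.HT.glOrd q n)
    (he : gl o ex = ex') : (n, q, m) ∈ ex' := by
  rw [← he, gl, List.mem_filter]
  exact ⟨h, by rw [Nat.beq_eq]; exact Nat.mod_eq_zero_of_dvd hg⟩

theorem two_ne (hp2 : p ≠ 2) : (2 : F) ≠ 0 := H64.HTCop.two_ne0 p hp2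

/-- `|Aut T|` for a group with known `Out` -/
theorem aut_dvd {T : Type v} [Group T] {o k A : ℕ} (ho : Nat.card T = o) (ho0 : 0 < o)
    (hk : Nat.card (Cfsg.Out T) = k) (hA : k * o = A) : Nat.card (MulAut T) ∣ A := by
  have hfin : Finite T := Nat.finite_of_card_ne_zero (by rw [ho]; omega)
  have h3 := H713.card_mulAut_dvd (S := T) (o := k) (by rw [hk])
  rwa [ho, hA] at h3

theorem l2_mem (hC : Core P) (hn : n ≤ 12) {s : ℕ} (h5 : 5 ≤ s) (h9 : s ≠ 9) (hps : ¬ p ∣ s) (h : IsL 2 s (Soc P)) :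
    (s = 5 ∧ n ∈ ({2, 3, 4, 5, 6} : Finset ℕ)) ∨ (s = 7 ∧ n ∈ ({3, 4, 6, 7, 8} : Finset ℕ)) ∨
    (s = 8 ∧ n ∈ ({7, 8, 9} : Finset ℕ)) ∨ (s = 11 ∧ n ∈ ({5, 6, 10, 11, 12} : Finset ℕ)) ∨
    (s = 13 ∧ n ∈ ({6, 7, 12} : Finset ℕ)) ∨ (s = 17 ∧ n ∈ ({8, 9} : Finset ℕ)) ∨
    (s = 19 ∧ n ∈ ({9, 10} : Finset ℕ)) ∨ (s = 23 ∧ n ∈ ({11, 12} : Finset ℕ)) ∨ (s = 25 ∧ n = 12) := by
  obtain ⟨K, iF, iT, hK, ⟨e⟩⟩ := h
  have h1 := H464.Sl2.l2_degrees p hC (K := K) (by rw [hK]; omega) (by rw [hK]; omega) (by rw [hK]; exact hps) e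
    (by rw [Fintype.card_fin]; exact hn)
  rwa [hK, Fintype.card_fin] at h1

/-- a group of Lie type in characteristic `r` is not the present one if `p = r` -/
theorem ne_of_lie {T : Type v} [Group T] {r : ℕ} (hL : ¬ IsLieTypeChar p T) (h : IsLieTypeChar r T) : p ≠ r := by
  rintro rfl
  exact hL h

/-- primes of the order -/
theorem pr {T : Type v} [Group T] {o : ℕ} (ho : Nat.card T = o) (hpT : p ∣ Nat.card T) (l : List ℕ)
    (hl : ∀ x ∈ l, x.Prime) (h : Nat.beq (l.prod ^ 50 % o) 0 = true) : p ∈ l :=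
  mem_of_dvd hp.out l hl h (ho ▸ hpT)

/-! ### Alternating groups -/

theorem sm_alt (hC : Core P) (h3 : 3 ≤ n) (hn : n ≤ 12) (hL : ¬ IsLieTypeChar p (Soc P)) (hpT : p ∣ Nat.card (Soc P))
    (h : AltC p n (Soc P)) {k m h' : ℕ} (hk : 1 ≤ k)
    (hc : CP (Nat.card (Soc P)) (Nat.card (MulAut (Soc P))) n (p ^ k) m h')
    (hg : Nat.card (Soc P) ∣ H742.HT.glOrd (p ^ k) n) : SmSurv p n (p ^ k) m (Soc P) := by
  obtain ⟨c, h5, h14, -, -, -, ⟨e⟩⟩ := h
  have hcard := Nat.card_congr e.toEquiv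
  have haut := Nat.card_congr (MulAut.congr e).toEquiv
  by_cases h9 : 9 ≤ c
  · exact Or.inr (Or.inr (Or.inr (Or.inl ⟨c, h9, ⟨e⟩⟩)))
  have hm : c = 5 ∨ c = 6 ∨ c = 7 ∨ c = 8 := by omega
  rcases hm with rfl | rfl | rfl | rfl
  · refine Or.inl ⟨?_, ⟨e⟩⟩
    have h60 : Nat.card (Soc P) = 60 := hcard.trans (H348.HT.card_alt 5 (by norm_num) (by decide))
    have h1 := pr h60 hpT [2, 3, 5] (by simp only [List.mem_cons, List.not_mem_nil, or_false]; rintro x (rfl | rfl | rfl) <;> norm_num) (by decide)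
    have h2 : p ≠ 2 := ne_of_lie hL (lie_of_isL Nat.prime_two (q := 4) (by norm_num) le_rfl (by norm_num)
      (by
        obtain ⟨K, iF, iT, hK⟩ := exists_field Nat.prime_two (k := 2) (by norm_num)
        obtain ⟨e'⟩ := S0252.result (F := K) (by rw [hK]; norm_num)
        exact ⟨K, iF, iT, by rw [hK]; norm_num, ⟨e.trans e'.symm⟩⟩))
    have h5' : p ≠ 5 := ne_of_lie hL (lie_of_isL Nat.prime_five (q := 5) (by norm_num) le_rfl (by norm_num)
      (by
        obtain ⟨K, iF, iT, hK⟩ := exists_field Nat.prime_five (k := 1) (by norm_num)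
        obtain ⟨e'⟩ := S0253.result (F := K) (by rw [hK]; norm_num)
        exact ⟨K, iF, iT, by rw [hK]; norm_num, ⟨e.trans e'.symm⟩⟩))
    simp only [List.mem_cons, List.not_mem_nil, or_false] at h1
    omega
  · have h60 : Nat.card (Soc P) = 360 := hcard.trans (H348.HT.card_alt 6 (by norm_num) (by decide))
    have h1 := pr h60 hpT [2, 3, 5] (by simp only [List.mem_cons, List.not_mem_nil, or_false]; rintro x (rfl | rfl | rfl) <;> norm_num) (by decide)
    have h2 : p ≠ 3 := ne_of_lie hL (lie_of_isL Nat.prime_three (q := 9) (by norm_num) le_rfl (by norm_num)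
      (by
        obtain ⟨K, iF, iT, hK⟩ := exists_field Nat.prime_three (k := 2) (by norm_num)
        obtain ⟨e'⟩ := S0254.result (F := K) (by rw [hK]; norm_num)
        exact ⟨K, iF, iT, by rw [hK]; norm_num, ⟨e.trans e'.symm⟩⟩))
    have h4 := s_a6 hp.out h60 (haut ▸ H753.ResCard.card_mulAut_A6) h3 (by
      simp only [List.mem_cons, List.not_mem_nil, or_false] at h1 ⊢; omega) k m h' hk hc
    refine Or.inr (Or.inl ⟨⟨e⟩, ?_, h4⟩)
    simp only [ex_a6, List.mem_cons, List.not_mem_nil, or_false, Prod.mk.injEq] at h4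
    have h5' : p ∣ 8 := by
      rw [← h4.2.1]
      exact dvd_pow_self p (by omega)
    exact (Nat.prime_dvd_prime_iff_eq hp.out Nat.prime_two).1 (hp.out.dvd_of_dvd_pow (show p ∣ 2 ^ 3 from h5'))
  · have h60 : Nat.card (Soc P) = 2520 := hcard.trans (H348.HT.card_alt 7 (by norm_num) (by decide))
    have h1 := pr h60 hpT [2, 3, 5, 7] (by simp only [List.mem_cons, List.not_mem_nil, or_false]; rintro x (rfl | rfl | rfl | rfl) <;> norm_num) (by decide)
    exact Or.inr (Or.inr (Or.inl ⟨⟨e⟩, filt (s_a7 hp.out h60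
      (by rw [haut, H348.HT.card_aut_alt 7 (by norm_num) (by norm_num)]; decide) h3 h1 k m h' hk hc) (h60 ▸ hg)
      (by decide +kernel)⟩))
  · exfalso
    have h60 : Nat.card (Soc P) = 20160 := hcard.trans (H348.HT.card_alt 8 (by norm_num) (by decide))
    have h1 := pr h60 hpT [2, 3, 5, 7] (by simp only [List.mem_cons, List.not_mem_nil, or_false]; rintro x (rfl | rfl | rfl | rfl) <;> norm_num) (by decide)
    have h2 : p ≠ 2 := ne_of_lie hL (lie_of_isL Nat.prime_two (q := 2) (m := 4) (by norm_num) (by norm_num) (by norm_num)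
      (by
        obtain ⟨K, iF, iT, hK⟩ := exists_field Nat.prime_two (k := 1) (by norm_num)
        obtain ⟨e'⟩ := S0256.result (F := K) (by rw [hK]; norm_num)
        exact ⟨K, iF, iT, by rw [hK]; norm_num, ⟨e.trans e'.symm⟩⟩))
    have h4 := s_a8 hp.out h60 (by rw [haut, H348.HT.card_aut_alt 8 (by norm_num) (by norm_num)]; decide) h3 (by
      simp only [List.mem_cons, List.not_mem_nil, or_false] at h1 ⊢; omega) k m h' hk hc
    have h5' : n = 4 := by
      simp only [ex_a8, List.mem_cons, List.not_mem_nil, or_false, Prod.mk.injEq] at h4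
      omega
    subst h5'
    exact H908.not_four_alt (two_ne h2) hC.perfect le_rfl ⟨e⟩ (MulEquiv.refl _)

/-! ### Groups of Lie type -/

theorem sm_l2 (hC : Core P) (h3 : 3 ≤ n) (hn : n ≤ 12) (hL : ¬ IsLieTypeChar p (Soc P)) (hpT : p ∣ Nat.card (Soc P))
    {s : ℕ} (hs : s ∈ ({7, 8, 11, 13, 17, 19, 23, 25} : Finset ℕ)) (hps : ¬ p ∣ s) (h : IsL 2 s (Soc P)) {k m h' : ℕ}
    (hk : 1 ≤ k) (hc : CP (Nat.card (Soc P)) (Nat.card (MulAut (Soc P))) n (p ^ k) m h')
    (hg : Nat.card (Soc P) ∣ H742.HT.glOrd (p ^ k) n) : SmSurv p n (p ^ k) m (Soc P) := by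
  simp only [Finset.mem_insert, Finset.mem_singleton] at hs
  have hd := l2_mem hC hn (s := s) (by omega) (by omega) hps h
  simp only [Finset.mem_insert, Finset.mem_singleton] at hd
  rcases hs with rfl | rfl | rfl | rfl | rfl | rfl | rfl | rfl
  · have ho := H530.HT.card_l2 (N := 168) h (by norm_num)
    have h1 := pr ho hpT [2, 3, 7] (by simp only [List.mem_cons, List.not_mem_nil, or_false]; rintro x (rfl | rfl | rfl) <;> norm_num) (by decide)
    have h2 : p ≠ 2 := ne_of_lie hL (lie_of_isL Nat.prime_two (by norm_num) (by norm_num) (by norm_num) (l32_of_l27 h))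
    have h7 : p ≠ 7 := by
      rintro rfl
      exact hps dvd_rfl
    have hp3 : p = 3 := by
      simp only [List.mem_cons, List.not_mem_nil, or_false] at h1
      omega
    exact Or.inr (Or.inr (Or.inr (Or.inr (Or.inl ⟨h, hp3, s_l2_7 hp.out ho
      (H530.HT.aut_l2 (p := 7) (f := 1) (N := 336) h (by norm_num) le_rfl (by norm_num) (by norm_num)
        (by norm_num)).dvd (by omega) (by simp [hp3]) k m h' hk hc⟩))))
  · exfalso
    have ho := H530.HT.card_l2 (N := 504) h (by norm_num)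
    have h1 := pr ho hpT [2, 3, 7] (by simp only [List.mem_cons, List.not_mem_nil, or_false]; rintro x (rfl | rfl | rfl) <;> norm_num) (by decide)
    have h2 : p ≠ 2 := by
      rintro rfl
      exact hps (by norm_num)
    exact nil rfl (s_l2_8 hp.out ho
      (H530.HT.aut_l2 (p := 2) (f := 3) (N := 1512) h (by norm_num) (by norm_num) (by norm_num) (by norm_num)
        (by norm_num)).dvd (by omega) (by simp only [List.mem_cons, List.not_mem_nil, or_false] at h1 ⊢; omega) k m h' hk hc)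
  · exfalso
    have ho := H530.HT.card_l2 (N := 660) h (by norm_num)
    have h1 := pr ho hpT [2, 3, 5, 11] (by simp only [List.mem_cons, List.not_mem_nil, or_false]; rintro x (rfl | rfl | rfl | rfl) <;> norm_num) (by decide)
    have h2 : p ≠ 11 := by
      rintro rfl
      exact hps dvd_rfl
    exact nil rfl (s_l2_11 hp.out ho
      (H530.HT.aut_l2 (p := 11) (f := 1) (N := 1320) h (by norm_num) (by norm_num) (by norm_num) (by norm_num)
        (by norm_num)).dvd (by omega) (by simp only [List.mem_cons, List.not_mem_nil, or_false] at h1 ⊢; omega) k m h' hk hc)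
  · have ho := H530.HT.card_l2 (N := 1092) h (by norm_num)
    have h1 := pr ho hpT [2, 3, 7, 13] (by simp only [List.mem_cons, List.not_mem_nil, or_false]; rintro x (rfl | rfl | rfl | rfl) <;> norm_num) (by decide)
    have h2 : p ≠ 13 := by
      rintro rfl
      exact hps dvd_rfl
    exact Or.inr (Or.inr (Or.inr (Or.inr (Or.inr (Or.inl ⟨h, filt (s_l2_13 hp.out ho
      (H530.HT.aut_l2 (p := 13) (f := 1) (N := 2184) h (by norm_num) (by norm_num) (by norm_num) (by norm_num)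
        (by norm_num)).dvd (by omega) (by simp only [List.mem_cons, List.not_mem_nil, or_false] at h1 ⊢; omega) k m h' hk hc)
      (ho ▸ hg) (by decide +kernel)⟩)))))
  · have ho := H530.HT.card_l2 (N := 2448) h (by norm_num)
    have h1 := pr ho hpT [2, 3, 17] (by simp only [List.mem_cons, List.not_mem_nil, or_false]; rintro x (rfl | rfl | rfl) <;> norm_num) (by decide)
    have h2 : p ≠ 17 := by
      rintro rfl
      exact hps dvd_rfl
    exact Or.inr (Or.inr (Or.inr (Or.inr (Or.inr (Or.inr (Or.inl ⟨h, s_l2_17 hp.out ho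
      (H530.HT.aut_l2 (p := 17) (f := 1) (N := 4896) h (by norm_num) (by norm_num) (by norm_num) (by norm_num)
        (by norm_num)).dvd (by omega) (by simp only [List.mem_cons, List.not_mem_nil, or_false] at h1 ⊢; omega) k m h' hk hc⟩))))))
  · exfalso
    have ho := H530.HT.card_l2 (N := 3420) h (by norm_num)
    have h1 := pr ho hpT [2, 3, 5, 19] (by simp only [List.mem_cons, List.not_mem_nil, or_false]; rintro x (rfl | rfl | rfl | rfl) <;> norm_num) (by decide)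
    have h2 : p ≠ 19 := by
      rintro rfl
      exact hps dvd_rfl
    exact nil rfl (s_l2_19 hp.out ho
      (H530.HT.aut_l2 (p := 19) (f := 1) (N := 6840) h (by norm_num) (by norm_num) (by norm_num) (by norm_num)
        (by norm_num)).dvd (by omega) (by simp only [List.mem_cons, List.not_mem_nil, or_false] at h1 ⊢; omega) k m h' hk hc)
  · exfalso
    have ho := H530.HT.card_l2 (N := 6072) h (by norm_num)
    have h1 := pr ho hpT [2, 3, 11, 23] (by simp only [List.mem_cons, List.not_mem_nil, or_false]; rintro x (rfl | rfl | rfl | rfl) <;> norm_num) (by decide)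
    have h2 : p ≠ 23 := by
      rintro rfl
      exact hps dvd_rfl
    exact nil rfl (s_l2_23 hp.out ho
      (H530.HT.aut_l2 (p := 23) (f := 1) (N := 12144) h (by norm_num) (by norm_num) (by norm_num) (by norm_num)
        (by norm_num)).dvd (by omega) (by simp only [List.mem_cons, List.not_mem_nil, or_false] at h1 ⊢; omega) k m h' hk hc)
  · exfalso
    have ho := H530.HT.card_l2 (N := 7800) h (by norm_num)
    have h1 := pr ho hpT [2, 3, 5, 13] (by simp only [List.mem_cons, List.not_mem_nil, or_false]; rintro x (rfl | rfl | rfl | rfl) <;> norm_num) (by decide)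
    have h2 : p ≠ 5 := by
      rintro rfl
      exact hps (by norm_num)
    exact nil rfl (s_l2_25 hp.out ho
      (H530.HT.aut_l2 (p := 5) (f := 2) (N := 31200) h (by norm_num) (by norm_num) (by norm_num) (by norm_num)
        (by norm_num)).dvd (by omega) (by simp only [List.mem_cons, List.not_mem_nil, or_false] at h1 ⊢; omega) k m h' hk hc)

theorem sm_lie (hC : Core P) (h3 : 3 ≤ n) (hn : n ≤ 12) (hL : ¬ IsLieTypeChar p (Soc P)) (hpT : p ∣ Nat.card (Soc P))
    (h : LieC p n (Soc P) ∨ MultD p n (Soc P)) {k m h' : ℕ} (hk : 1 ≤ k)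
    (hc : CP (Nat.card (Soc P)) (Nat.card (MulAut (Soc P))) n (p ^ k) m h')
    (hg : Nat.card (Soc P) ∣ H742.HT.glOrd (p ^ k) n) : SmSurv p n (p ^ k) m (Soc P) := by
  have hu42 : 4 ≤ n → IsU 4 2 (Soc P) → SmSurv p n (p ^ k) m (Soc P) := fun h4 h => by
    exfalso
    have ho := H530.HT.card_u42 h
    have h1 := pr ho hpT [2, 3, 5] (by simp only [List.mem_cons, List.not_mem_nil, or_false]; rintro x (rfl | rfl | rfl) <;> norm_num) (by decide)
    have h2 : p ≠ 2 := ne_of_lie hL (lie_of_isU Nat.prime_two (by norm_num) (by norm_num) (by norm_num) h)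
    have h5 : p ≠ 3 := ne_of_lie hL (lie_of_isS Nat.prime_three (by norm_num) (by norm_num) (by norm_num) (s23_of_u42 h))
    exact nil rfl (s_u42 hp.out ho (H93.UG.v_u42 h).dvd h4
      (by simp only [List.mem_cons, List.not_mem_nil, or_false] at h1 ⊢; omega) k m h' hk hc)
  have hs32 : 7 ≤ n → IsS 3 2 (Soc P) → SmSurv p n (p ^ k) m (Soc P) := fun h4 h => by
    exfalso
    have ho := H530.HT.card_s32 h
    have h1 := pr ho hpT [2, 3, 5, 7] (by simp only [List.mem_cons, List.not_mem_nil, or_false]; rintro x (rfl | rfl | rfl | rfl) <;> norm_num) (by decide)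
    have h2 : p ≠ 2 := ne_of_lie hL (lie_of_isS Nat.prime_two (by norm_num) (by norm_num) (by norm_num) h)
    exact nil rfl (s_s62 hp.out ho (H93.UG.v_s32 h).dvd h4
      (by simp only [List.mem_cons, List.not_mem_nil, or_false] at h1 ⊢; omega) k m h' hk hc)
  have ho82 : 7 ≤ n → IsOP 4 2 (Soc P) → SmSurv p n (p ^ k) m (Soc P) := fun h4 h => by
    exfalso
    have ho := H530.HT.card_op42 h
    have h1 := pr ho hpT [2, 3, 5, 7] (by simp only [List.mem_cons, List.not_mem_nil, or_false]; rintro x (rfl | rfl | rfl | rfl) <;> norm_num) (by decide)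
    have h2 : p ≠ 2 := ne_of_lie hL (lie_of_isOP Nat.prime_two (by norm_num) (by norm_num) h)
    exact nil rfl (s_o82 hp.out ho (H93.UG.aut_op42 h).dvd h4
      (by simp only [List.mem_cons, List.not_mem_nil, or_false] at h1 ⊢; omega) k m h' hk hc)
  rcases h with (⟨s, hs, hps, -, h⟩ | ⟨hp3, h8, h⟩ | ⟨hp3, h66, h⟩ | ⟨hp2, h12, h⟩ | ⟨-, -, h4, h⟩ | ⟨hp2, h8, h⟩ | ⟨hp5, h12, h⟩ |
    ⟨-, h7, h⟩ | ⟨-, h7, h⟩) | (⟨hp2, h2, h | h | ⟨-, h⟩ | h | h | h⟩ | ⟨hp3, h3', h⟩)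
  · exact sm_l2 hC h3 hn hL hpT hs hps h hk hc hg
  · exfalso
    have ho := H530.HT.card_l3 (N := 5616) h (by norm_num) (by norm_num) (by simp [Fin.prod_univ_succ])
    have h1 := pr ho hpT [2, 3, 13] (by simp only [List.mem_cons, List.not_mem_nil, or_false]; rintro x (rfl | rfl | rfl) <;> norm_num) (by decide)
    exact nil rfl (s_l33 hp.out ho (H93.UG.v_l33 h).dvd h8
      (by simp only [List.mem_cons, List.not_mem_nil, or_false] at h1 ⊢; omega) k m h' hk hc)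
  · have ho := H530.HT.card_u33 h
    have h1 := pr ho hpT [2, 3, 7] (by simp only [List.mem_cons, List.not_mem_nil, or_false]; rintro x (rfl | rfl | rfl) <;> norm_num) (by decide)
    exact Or.inr (Or.inr (Or.inr (Or.inr (Or.inr (Or.inr (Or.inr (Or.inl ⟨h, s_u33 hp.out ho (H93.UG.v_u33 h).dvd h66
      (by simp only [List.mem_cons, List.not_mem_nil, or_false] at h1 ⊢; omega) k m h' hk hc⟩)))))))
  · exfalso
    have ho : Nat.card (Soc P) = 62400 := by
      obtain ⟨K, iF, iT, hK, ⟨e⟩⟩ := h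
      rw [Nat.card_congr e.toEquiv, H930.HT.card_u34 hK]
    have h1 := pr ho hpT [2, 3, 5, 13] (by simp only [List.mem_cons, List.not_mem_nil, or_false]; rintro x (rfl | rfl | rfl | rfl) <;> norm_num) (by decide)
    exact nil rfl (s_u34 hp.out ho (H93.UG.v_u34 h).dvd h12
      (by simp only [List.mem_cons, List.not_mem_nil, or_false] at h1 ⊢; omega) k m h' hk hc)
  · exact hu42 h4 h
  · exfalso
    have ho := H530.HT.card_u52 h
    have h1 := pr ho hpT [2, 3, 5, 11] (by simp only [List.mem_cons, List.not_mem_nil, or_false]; rintro x (rfl | rfl | rfl | rfl) <;> norm_num) (by decide)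
    exact nil rfl (s_u52 hp.out ho (H93.UG.v_u52 h).dvd h8
      (by simp only [List.mem_cons, List.not_mem_nil, or_false] at h1 ⊢; omega) k m h' hk hc)
  · exfalso
    have ho := H530.HT.card_s25 h
    have h1 := pr ho hpT [2, 3, 5, 13] (by simp only [List.mem_cons, List.not_mem_nil, or_false]; rintro x (rfl | rfl | rfl | rfl) <;> norm_num) (by decide)
    have h4 := s_s45 hp.out ho (H93.UG.v_s25 h).dvd h12
      (by simp only [List.mem_cons, List.not_mem_nil, or_false] at h1 ⊢; omega) k m h' hk hc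
    simp only [ex_s45, List.mem_cons, List.not_mem_nil, or_false, Prod.mk.injEq] at h4
    obtain ⟨rfl, h5, -⟩ := h4
    rw [ho, h5] at hg
    revert hg
    decide +kernel
  · exact hs32 h7 h
  · exact ho82 h7 h
  · refine sm_l2 hC h3 hn hL hpT (s := 7) (by decide) ?_ h hk hc hg
    intro hd
    have h7 : p = 7 := (Nat.prime_dvd_prime_iff_eq hp.out (by norm_num)).1 hd
    subst h7
    exact hL (lie_of_isL hp.out dvd_rfl (by norm_num) (by norm_num) h)
  · have ho := H530.HT.card_l3 (N := 20160) h (by norm_num) (by norm_num) (by simp [Fin.prod_univ_succ])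
    have h1 := pr ho hpT [2, 3, 5, 7] (by simp only [List.mem_cons, List.not_mem_nil, or_false]; rintro x (rfl | rfl | rfl | rfl) <;> norm_num) (by decide)
    by_cases hp3 : p = 3
    · exact Or.inr (Or.inr (Or.inr (Or.inr (Or.inr (Or.inr (Or.inr (Or.inr (Or.inl ⟨h, hp3, filt (s_l34_3 hp.out ho
        (H93.UG.v_l34 h).dvd (by omega) (by simp [hp3]) k m h' hk hc) (ho ▸ hg) (by decide +kernel)⟩))))))))
    · exfalso
      have h4 := s_l34 hp.out ho (H93.UG.v_l34 h).dvd (n := n)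
      by_cases h8 : 6 ≤ n
      · exact nil rfl (h4 h8 (by simp only [List.mem_cons, List.not_mem_nil, or_false] at h1 ⊢; omega) k m h' hk hc)
      · obtain ⟨K, i1, i2, hK, ⟨e⟩⟩ := h
        have h5 : n = 4 := by omega
        subst h5
        exact H906.T14.not_four_L34 (by exact_mod_cast H64.HTCop.cast_ne0 (F := F) p Nat.prime_three hp3) hC.perfect hK e
  · exact hu42 (by omega) h
  · have h4 := H64.HTCop.two_ne0 (F := F) p hp2
    refine hs32 ?_ h
    obtain ⟨K, i1, i2, hK, ⟨e⟩⟩ := h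
    have := H916.SpSix.spSix_dim (H64.HTCop.zero_or_one hK) hC e h4 (by simp; omega)
    simp at this
    omega
  · have h4 := H64.HTCop.two_ne0 (F := F) p hp2
    refine ho82 ?_ h
    obtain ⟨K, i1, i2, hK, ⟨e⟩⟩ := h
    have := H916.Om.omega_dim (H64.HTCop.zero_or_one hK) hC e h4 (by simp; omega)
    simp at this
    omega
  · have h4 := H64.HTCop.two_ne0 (F := F) p hp2
    have h12 : 12 ≤ n := by
      obtain ⟨K, i1, i2, hK, ⟨e⟩⟩ := h
      have := H937.G24.core_ge hK h4 e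
      simpa using this
    have ho := H530.HT.card_g24 h
    have h1 := pr ho hpT [2, 3, 5, 7, 13] (by simp only [List.mem_cons, List.not_mem_nil, or_false]; rintro x (rfl | rfl | rfl | rfl | rfl) <;> norm_num) (by decide)
    exact Or.inr (Or.inr (Or.inr (Or.inr (Or.inr (Or.inr (Or.inr (Or.inr (Or.inr (Or.inl ⟨h, s_g24 hp.out ho
      (H93.UG.aut_g24 h).dvd h12 (by simp only [List.mem_cons, List.not_mem_nil, or_false] at h1 ⊢; omega) k m h' hk hc⟩)))))))))
  · have ho := H530.HT.card_u43 h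
    have h1 := pr ho hpT [2, 3, 5, 7] (by simp only [List.mem_cons, List.not_mem_nil, or_false]; rintro x (rfl | rfl | rfl | rfl) <;> norm_num) (by decide)
    exact Or.inr (Or.inr (Or.inr (Or.inr (Or.inr (Or.inr (Or.inr (Or.inr (Or.inr (Or.inr (Or.inl ⟨h, filt (s_u43 hp.out ho
      (H93.UG.v_u43 h).dvd h3 (by simp only [List.mem_cons, List.not_mem_nil, or_false] at h1 ⊢; omega) k m h' hk hc)
      (ho ▸ hg) (by decide +kernel)⟩))))))))))

/-! ### `Sz(8)` -/

theorem sm_sz (hC : Core P) (hn : n ≤ 12) (hp2 : p ≠ 2) (h : IsSz8 (Soc P)) (hpT : p ∣ Nat.card (Soc P)) {k m h' : ℕ}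
    (hk : 1 ≤ k) (hc : CP (Nat.card (Soc P)) (Nat.card (MulAut (Soc P))) n (p ^ k) m h') : False := by
  have h8 := (H814.Sz8.core_sz8 hC (two_ne hp2) (by rw [Fintype.card_fin]; exact hn) h).1
  rw [Fintype.card_fin] at h8
  obtain ⟨K, iK, iKf, hK, ⟨e⟩⟩ := h
  have hK' : Fintype.card K = 2 ^ (2 * 1 + 1) := by rw [hK]; norm_num
  have hcard := Nat.card_congr e.toEquiv
  have haut := Nat.card_congr (MulAut.congr e).toEquiv
  have h1 : Nat.card ↥(Cfsg.Lie.Sz K 4) = 29120 := by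
    refine (S1163.result (m := 1) le_rfl hK').1.trans ?_
    norm_num
  have h2 : Nat.card (Cfsg.Out ↥(Cfsg.Lie.Sz K 4)) = 3 := S2126.result (m := 1) le_rfl hK'
  have ho : Nat.card (Soc P) = 29120 := hcard.trans h1
  have h3 := pr ho hpT [2, 5, 7, 13] (by simp only [List.mem_cons, List.not_mem_nil, or_false]; rintro x (rfl | rfl | rfl | rfl) <;> norm_num) (by decide)
  exact nil rfl (s_sz8 hp.out ho (haut ▸ aut_dvd h1 (by norm_num) h2 (by norm_num)) (by omega)
    (by simp only [List.mem_cons, List.not_mem_nil, or_false] at h3 ⊢; omega) k m h' hk hc)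

/-! ### Sporadic groups -/

theorem sm_spor (hC : Core P) (h3 : 3 ≤ n) (hn : n ≤ 12) (hpT : p ∣ Nat.card (Soc P)) (h : SporC (Soc P))
    {k m h' : ℕ} (hk : 1 ≤ k) (hc : CP (Nat.card (Soc P)) (Nat.card (MulAut (Soc P))) n (p ^ k) m h')
    (hg : Nat.card (Soc P) ∣ H742.HT.glOrd (p ^ k) n) (hF : Nat.card F - 1 ∣ p ^ k - 1) :
    SmSurv p n (p ^ k) m (Soc P) := by
  have hce : ∀ {T : Type} [Group T] (_ : Soc P ≃* T), Nat.card (Soc P) = Nat.card T := fun e => Nat.card_congr e.toEquiv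
  have hae : ∀ {T : Type} [Group T] (_ : Soc P ≃* T), Nat.card (MulAut (Soc P)) = Nat.card (MulAut T) :=
    fun e => Nat.card_congr (MulAut.congr e).toEquiv
  rcases h with ⟨⟨e⟩⟩ | ⟨⟨e⟩⟩ | ⟨⟨e⟩⟩ | ⟨⟨e⟩⟩ | ⟨⟨e⟩⟩ | h | ⟨⟨e⟩⟩ | ⟨K, _, _, ω, hK, hω, ⟨e⟩⟩ | ⟨⟨e⟩⟩
  · exfalso
    have ho := (hce e).trans H852.IMMathieu.card_M11
    have h1 := pr ho hpT [2, 3, 5, 11] (by simp only [List.mem_cons, List.not_mem_nil, or_false]; rintro x (rfl | rfl | rfl | rfl) <;> norm_num) (by decide)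
    exact nil rfl (filt (s_m11 hp.out ho ((hae e) ▸ aut_dvd H852.IMMathieu.card_M11 (by norm_num) S2060.result (by norm_num))
      h3 h1 k m h' hk hc) (ho ▸ hg) (ex' := g_m11) (by decide +kernel))
  · exfalso
    have ho := (hce e).trans H852.IMMathieu.card_M12
    have h1 := pr ho hpT [2, 3, 5, 11] (by simp only [List.mem_cons, List.not_mem_nil, or_false]; rintro x (rfl | rfl | rfl | rfl) <;> norm_num) (by decide)
    exact nil rfl (filt (s_m12 hp.out ho ((hae e) ▸ aut_dvd H852.IMMathieu.card_M12 (by norm_num) S2061.result (by norm_num))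
      h3 h1 k m h' hk hc) (ho ▸ hg) (ex' := g_m12) (by decide +kernel))
  · have ho := (hce e).trans H852.IMMathieu.card_M22
    have h1 := pr ho hpT [2, 3, 5, 7, 11] (by simp only [List.mem_cons, List.not_mem_nil, or_false]; rintro x (rfl | rfl | rfl | rfl | rfl) <;> norm_num) (by decide)
    exact Or.inr (Or.inr (Or.inr (Or.inr (Or.inr (Or.inr (Or.inr (Or.inr (Or.inr (Or.inr (Or.inr (Or.inl ⟨⟨e⟩, filt
      (s_m22 hp.out ho ((hae e) ▸ aut_dvd H852.IMMathieu.card_M22 (by norm_num) S2062.result (by norm_num))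
      h3 h1 k m h' hk hc) (ho ▸ hg) (by decide +kernel)⟩)))))))))))
  · exfalso
    have ho := (hce e).trans H852.IMMathieu.card_M23
    obtain ⟨-, h11, -⟩ := H4.LDM.Stage.m23_low hC e p (by simpa using hn)
    rw [Fintype.card_fin] at h11
    have h1 := pr ho hpT [2, 3, 5, 7, 11, 23] (by simp only [List.mem_cons, List.not_mem_nil, or_false]; rintro x (rfl | rfl | rfl | rfl | rfl | rfl) <;> norm_num) (by decide)
    have h2 := s_m23 hp.out ho ((hae e) ▸ aut_dvd H852.IMMathieu.card_M23 (by norm_num) S2063.result (by norm_num))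
      (by omega) h1 k m h' hk hc
    simp only [ex_m23, List.mem_cons, List.not_mem_nil, or_false, Prod.mk.injEq] at h2
    omega
  · exfalso
    have ho := (hce e).trans S0364.result
    obtain ⟨-, h11, -⟩ := H4.LDM.Stage.m24_low hC e p (by simpa using hn)
    rw [Fintype.card_fin] at h11
    have h1 := pr ho hpT [2, 3, 5, 7, 11, 23] (by simp only [List.mem_cons, List.not_mem_nil, or_false]; rintro x (rfl | rfl | rfl | rfl | rfl | rfl) <;> norm_num) (by decide)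
    have h2 := s_m24 hp.out ho ((hae e) ▸ aut_dvd S0364.result (by norm_num) S2064.result (by norm_num))
      (by omega) h1 k m h' hk hc
    simp only [ex_m24, List.mem_cons, List.not_mem_nil, or_false, Prod.mk.injEq] at h2
    omega
  · by_cases h11 : p = 11
    · by_cases h7 : 7 ≤ n
      · exfalso
        obtain ⟨e⟩ := h
        have ho := (hce e).trans SporRec.J1.Words.card_J1
        exact nil rfl (s_j1b hp.out ho ((hae e) ▸ aut_dvd SporRec.J1.Words.card_J1 (by norm_num) S2065.result (by norm_num))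
          h7 (by simp [h11]) k m h' hk hc)
      · exact Or.inr (Or.inr (Or.inr (Or.inr (Or.inr (Or.inr (Or.inr (Or.inr (Or.inr (Or.inr (Or.inr (Or.inr (Or.inl
          ⟨h, h11, by omega⟩))))))))))))
    · exact (H659.J1.not_core hC h p h11 (by simpa using hn)).elim
  · have ho := (hce e).trans S1619.result.2.2.2
    have h1 := pr ho hpT [2, 3, 5, 7] (by simp only [List.mem_cons, List.not_mem_nil, or_false]; rintro x (rfl | rfl | rfl | rfl) <;> norm_num) (by decide)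
    have h2 := filt (s_j2 hp.out ho ((hae e) ▸ aut_dvd S1619.result.2.2.2 (by norm_num) S2066.result (by norm_num))
      h3 h1 k m h' hk hc) (ho ▸ hg) (ex' := g_j2) (by decide +kernel)
    refine Or.inr (Or.inr (Or.inr (Or.inr (Or.inr (Or.inr (Or.inr (Or.inr (Or.inr (Or.inr (Or.inr (Or.inr (Or.inr (Or.inl
      ⟨⟨e⟩, ?_⟩)))))))))))))
    have h5 : p ≠ 5 ∧ ((n = 3 ∨ n = 4) ∨ (n, p ^ k, m) ∈ [(6, 4, 315), (12, 2, 315)]) := by
      simp only [g_j2, List.mem_cons, List.not_mem_nil, or_false, Prod.mk.injEq] at h2 ⊢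
      refine ⟨?_, by omega⟩
      rintro rfl
      have h5 : 5 ∣ 5 ^ k := dvd_pow_self 5 (by omega)
      omega
    rcases h5 with ⟨h5, h6 | h6⟩
    · exfalso
      have h7 : Nat.Prime 5 := by norm_num
      have := (H921.Spor.J2.J2_five.bd h7 (H64.HTCop.cast_ne0 (F := F) p h7 h5)) n
        (H912.Bd.PR.of_perfect P hC.perfect h7 (by omega) e)
      omega
    · exact h6
  · exfalso
    have hbase := (H898.J3Cent.base (K := Spor.J3 K ω) ⟨K, inferInstance, inferInstance, ω, hK, hω, ⟨MulEquiv.refl _⟩⟩).2.1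
    have ho := (hce e).trans hbase
    have h1 := pr ho hpT [2, 3, 5, 17, 19] (by simp only [List.mem_cons, List.not_mem_nil, or_false]; rintro x (rfl | rfl | rfl | rfl | rfl) <;> norm_num) (by decide)
    exact nil rfl (filt (s_j3 hp.out ho ((hae e) ▸ aut_dvd hbase (by norm_num) (S2067.result hK ω hω) (by norm_num))
      h3 h1 k m h' hk hc) (ho ▸ hg) (ex' := g_j3) (by decide +kernel))
  · have ho := (hce e).trans S1694.result.2
    have h12 : n = 12 := by
      by_cases hp3 : p = 3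
      · subst hp3
        simpa using (H878.Sz.core_Suz_three hC e (by simpa using hn)).1
      · simpa using (H878.Sz.core_Suz hC e (by simpa using hn) p hp3).1
    have h1 := pr ho hpT [2, 3, 5, 7, 11, 13] (by simp only [List.mem_cons, List.not_mem_nil, or_false]; rintro x (rfl | rfl | rfl | rfl | rfl | rfl) <;> norm_num) (by decide)
    have h2 := s_suz hp.out ho ((hae e) ▸ aut_dvd S1694.result.2 (by norm_num) S2074.result (by norm_num))
      (by omega) h1 k m h' hk hc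
    have h4 : p ^ k = 2 ∨ (n, p ^ k, m) ∈ [(12, 3, 7280)] := by
      simp only [ex_suz, List.mem_cons, List.not_mem_nil, or_false, Prod.mk.injEq] at h2 ⊢
      omega
    refine Or.inr (Or.inr (Or.inr (Or.inr (Or.inr (Or.inr (Or.inr (Or.inr (Or.inr (Or.inr (Or.inr (Or.inr (Or.inr (Or.inr
      ⟨⟨e⟩, ?_⟩)))))))))))))
    rcases h4 with h4 | h4
    · exfalso
      have hp2 : p = 2 := by
        have : p ∣ 2 := h4 ▸ dvd_pow_self p (by omega)
        exact (Nat.prime_dvd_prime_iff_eq hp.out Nat.prime_two).1 this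
      subst hp2
      obtain ⟨-, ⟨c, hc1, -⟩, -⟩ := H878.Sz.core_Suz hC e (by simpa using hn) 2 (by norm_num)
      rw [h4] at hF
      have hF1 : Nat.card F - 1 = 1 := Nat.dvd_one.1 (by simpa using hF)
      have hF2 : Fintype.card F = 2 := by
        rw [← Nat.card_eq_fintype_card]
        omega
      rcases H64.HTCop.zero_or_one hF2 c with rfl | rfl
      · simp at hc1
      · have h5 : (1 : F) + 1 = 0 := CharTwo.add_self_eq_zero 1
        have h6 : (1 : F) ^ 4 + 1 ^ 2 + 1 = 1 := by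
          rw [one_pow, one_pow, h5, zero_add]
        rw [h6] at hc1
        exact one_ne_zero hc1
    · exact h4

/-- **Degree `3 ≤ n ≤ 12`.** -/
theorem small (hC : Core P) (h3 : 3 ≤ n) (hn : n ≤ 12) (hK : IsKnownSimple' (Soc P)) (hL : ¬ IsLieTypeChar p (Soc P))
    (hpT : p ∣ Nat.card (Soc P)) {k m h' : ℕ} (hk : 1 ≤ k)
    (hc : CP (Nat.card (Soc P)) (Nat.card (MulAut (Soc P))) n (p ^ k) m h')
    (hg : Nat.card (Soc P) ∣ H742.HT.glOrd (p ^ k) n) (hF : Nat.card F - 1 ∣ p ^ k - 1) :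
    SmSurv p n (p ^ k) m (Soc P) := by
  rcases list₂ hn hC hK hL with h | h | h | ⟨h1, h2, h⟩ | h
  · exact sm_alt hC h3 hn hL hpT h hk hc hg
  · exact sm_lie hC h3 hn hL hpT (Or.inl h) hk hc hg
  · exact sm_lie hC h3 hn hL hpT (Or.inr h) hk hc hg
  · exact (sm_sz hC hn h1 h hpT hk hc).elim
  · exact sm_spor hC h3 hn hpT h hk hc hg hF

end

end Cfsg.Agent.H391.HT
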